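import Mathlib
import Groth.Prelude.Def_Found
import Groth.Agent.Hensel.Local
import Groth.Agent.CompleteNagata.Complete
import Groth.Agent.UnivOpenDvr5.Core
import Groth.Agent.UnivOpenFin5.QuasiFin
import Groth.Agent.CILib.Basic
import Groth.Agent.ArtFunLib.Hull.Ring
import Groth.Agent.S17754

/-!
# Finite discrete valuation rings over a reduced complete Noetherian local ring
-/

set_option autoImplicit false
set_option linter.style.haveILetI false

open IsLocalRing

namespace Groth.Agent.FlatDvrVC5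

universe u

/-- A prime of coheight one avoiding a given nonzero element. -/
theorem exists_onedim_prime {A : Type u} [CommRing A] [IsNoetherianRing A] [IsLocalRing A] [IsReduced A]
    (hA : ¬ IsField A) {x : A} (hx : x ≠ 0) :
    ∃ P : Ideal A, P.IsPrime ∧ x ∉ P ∧ P ≠ maximalIdeal A ∧ ∀ q : Ideal A, q.IsPrime → P < q → q = maximalIdeal A := by
  obtain ⟨P₁, hP₁, hxP₁⟩ : ∃ P : Ideal A, P.IsPrime ∧ x ∉ P := by
    by_contra! h
    exact hx (IsReduced.eq_zero x (nilpotent_iff_mem_prime.2 h))
  obtain ⟨P₀, hP₀, hP₀le⟩ := Ideal.exists_minimalPrimes_le (I := (⊥ : Ideal A)) (J := P₁) bot_le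
  have hP₀m : P₀ ≠ maximalIdeal A := fun e => by
    refine hA (isField_iff_maximalIdeal_eq.2 (eq_bot_iff.2 fun a ha => ?_))
    refine IsReduced.eq_zero a (nilpotent_iff_mem_prime.2 fun q hq => ?_)
    exact hP₀.2 ⟨hq, bot_le⟩ (e ▸ le_maximalIdeal hq.ne_top) (e.symm ▸ ha)
  haveI := hP₀.1.1
  obtain ⟨y, hy, hyP⟩ := SetLike.not_le_iff_exists.1 fun h : maximalIdeal A ≤ P₀ =>
    hP₀m ((maximalIdeal.isMaximal A).eq_of_le hP₀.1.1.ne_top h).symm
  let S : Set (Ideal A) := {q | q.IsPrime ∧ x * y ∉ q}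
  obtain ⟨P, ⟨hP, hxy⟩, hmax⟩ := set_has_maximal_iff_noetherian.2 inferInstance S
    ⟨P₀, hP₀.1.1, fun h => (hP₀.1.1.mem_or_mem h).elim (fun h => hxP₁ (hP₀le h)) hyP⟩
  haveI : Ideal.IsPrime P := hP
  refine ⟨P, hP, fun h => hxy (Ideal.mul_mem_right y P h), fun e => hxy (e ▸ Ideal.mul_mem_left _ x hy),
    fun q hq hPq => ?_⟩
  have hker : RingHom.ker (Ideal.Quotient.mk P) ≤ maximalIdeal A := by
    rw [Ideal.mk_ker]; exact le_maximalIdeal hP.ne_top
  haveI : ((maximalIdeal A).map (Ideal.Quotient.mk P)).IsPrime :=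
    Ideal.map_isPrime_of_surjective Ideal.Quotient.mk_surjective hker
  haveI := hq
  haveI : (q.map (Ideal.Quotient.mk P)).IsPrime :=
    Ideal.map_isPrime_of_surjective Ideal.Quotient.mk_surjective (by rw [Ideal.mk_ker]; exact hPq.le)
  have h1 := UnivOpenFin5.eq_of_forall_prime_le_mem (D := A ⧸ P) (a := Ideal.Quotient.mk P (x * y))
    (fun e => hxy (Ideal.Quotient.eq_zero_iff_mem.1 e)) ((maximalIdeal A).map (Ideal.Quotient.mk P))
    (fun r hr _ hr0 => by
      by_contra h
      refine hmax (r.comap (Ideal.Quotient.mk P)) ⟨Ideal.IsPrime.comap _, h⟩ ?_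
      have hle : P ≤ r.comap (Ideal.Quotient.mk P) := fun a ha => by
        show Ideal.Quotient.mk P a ∈ r
        rw [Ideal.Quotient.eq_zero_iff_mem.2 ha]; exact r.zero_mem
      refine lt_of_le_of_ne hle fun e => hr0 ?_
      rw [← Ideal.map_comap_of_surjective _ Ideal.Quotient.mk_surjective r, ← e, Ideal.map_quotient_self])
    (q.map (Ideal.Quotient.mk P)) inferInstance
    (Ideal.mem_map_of_mem _ (by_contra fun h => hmax q ⟨hq, h⟩ hPq))
    (Ideal.map_mono (le_maximalIdeal hq.ne_top))
  have h2 := congrArg (Ideal.comap (Ideal.Quotient.mk P)) h1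
  rwa [Ideal.comap_map_of_surjective _ Ideal.Quotient.mk_surjective,
    Ideal.comap_map_of_surjective _ Ideal.Quotient.mk_surjective, ← RingHom.ker_eq_comap_bot, Ideal.mk_ker,
    sup_eq_left.2 hPq.le, sup_eq_left.2 (le_maximalIdeal hP.ne_top)] at h2

/-- The normalization of a complete one dimensional domain. -/
theorem exists_dvr_normalization (D : Type u) [CommRing D] [IsDomain D] [IsLocalRing D] [IsNoetherianRing D]
    [IsAdicComplete (maximalIdeal D) D] (hD : ¬ IsField D) [Ring.DimensionLEOne D] :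
    ∃ (V : Type u) (_ : CommRing V) (_ : IsDomain V) (_ : IsDiscreteValuationRing V) (φ : D →+* V),
      IsLocalHom φ ∧ φ.Finite ∧ Function.Injective φ := by
  haveI : HenselianLocalRing D := Hensel.henselianLocalRing_of_henselianRing D
  let L := FractionRing D
  let B := integralClosure D L
  haveI hBfin : Module.Finite D B :=
    CompleteNagata.isN2_of_complete D L inferInstance
  haveI : IsLocalRing B := UnivOpenDvr5.isLocalRing_of_finite_domain D B
  haveI : IsNoetherianRing B := isNoetherian_of_tower D (inferInstance : IsNoetherian D B)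
  haveI : IsFractionRing B L := integralClosure.isFractionRing_of_finite_extension L L
  haveI : IsIntegrallyClosed B := integralClosure.isIntegrallyClosedOfFiniteExtension L
  haveI : Algebra.IsIntegral D B := inferInstance
  have hDB : Function.Injective (algebraMap D B) := fun a b e =>
    IsFractionRing.injective D L (congrArg Subtype.val e)
  haveI : Ring.DimensionLEOne B := Ring.DimensionLEOne.integralClosure D L
  haveI : IsDedekindDomain B := {}
  have hBf : ¬ IsField B := fun hf => hD (isField_of_isIntegral_of_isField hDB hf)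
  haveI : IsDiscreteValuationRing B :=
    (IsDiscreteValuationRing.TFAE B hBf).out 0 2 rfl rfl |>.2 inferInstance
  exact ⟨B, inferInstance, inferInstance, inferInstance, algebraMap D B,
    RingHom.IsIntegral.isLocalHom Algebra.IsIntegral.isIntegral hDB, RingHom.finite_algebraMap.2 hBfin, hDB⟩

/-- Finite discrete valuation rings define the topology of a reduced complete Noetherian local ring. -/
theorem exists_finite_dvr_family (A : Type u) [CommRing A] [IsNoetherianRing A] [IsLocalRing A] [IsReduced A]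
    [IsAdicComplete (maximalIdeal A) A] (hA : ¬ IsField A) (n : ℕ) :
    ∃ (k : ℕ) (V : Fin k → Type u) (_ : ∀ i, CommRing (V i)) (_ : ∀ i, IsDomain (V i))
      (_ : ∀ i, IsDiscreteValuationRing (V i)) (φ : ∀ i, A →+* V i),
      (∀ i, IsLocalHom (φ i) ∧ (φ i).Finite) ∧ ⨅ i, RingHom.ker (φ i) ≤ maximalIdeal A ^ n := by
  classical
  let ι := {P : Ideal A // P.IsPrime ∧ P ≠ maximalIdeal A ∧ ∀ q : Ideal A, q.IsPrime → P < q → q = maximalIdeal A}
  -- directed family of finite intersections
  let K : Finset ι → Ideal A := fun F => F.inf Subtype.val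
  have hart : ∀ j : ℕ, IsArtinianRing (A ⧸ maximalIdeal A ^ j) := fun j =>
    ArtFunLib.Hull.isArtinianRing_quotient_pow _ j
  have hmin : ∀ j : ℕ, ∃ F : Finset ι, ∀ G : Finset ι, K F ≤ K G ⊔ maximalIdeal A ^ j := fun j => by
    haveI := hart j
    obtain ⟨_, ⟨F, rfl⟩, hF⟩ := (inferInstance : WellFoundedLT (Ideal (A ⧸ maximalIdeal A ^ j))).wf.has_min
      (Set.range fun F : Finset ι => (K F).map (Ideal.Quotient.mk (maximalIdeal A ^ j))) ⟨_, ∅, rfl⟩
    refine ⟨F, fun G => ?_⟩
    have hle : (K (F ∪ G)).map (Ideal.Quotient.mk (maximalIdeal A ^ j)) ≤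
        (K F).map (Ideal.Quotient.mk (maximalIdeal A ^ j)) :=
      Ideal.map_mono (Finset.inf_mono Finset.subset_union_left)
    have heq := eq_of_le_of_not_lt hle (hF _ ⟨F ∪ G, rfl⟩)
    have h2 := congrArg (Ideal.comap (Ideal.Quotient.mk (maximalIdeal A ^ j))) heq
    rw [Ideal.comap_map_of_surjective _ Ideal.Quotient.mk_surjective,
      Ideal.comap_map_of_surjective _ Ideal.Quotient.mk_surjective, ← RingHom.ker_eq_comap_bot, Ideal.mk_ker] at h2
    calc K F ≤ K F ⊔ maximalIdeal A ^ j := le_sup_left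
      _ = K (F ∪ G) ⊔ maximalIdeal A ^ j := h2.symm
      _ ≤ K G ⊔ maximalIdeal A ^ j := sup_le_sup_right (Finset.inf_mono Finset.subset_union_right) _
  choose F hF using hmin
  let I : ℕ → Ideal A := fun j => K ((Finset.range (j + 1)).biUnion F)
  have hI : Antitone I := fun a b hab => Finset.inf_mono
    (Finset.biUnion_subset_biUnion_of_subset_left _ (Finset.range_mono (by omega)))
  have hinf : ⨅ s, I s = ⊥ := by
    rw [eq_bot_iff]
    intro x hx
    by_contra hx0
    rw [Ideal.mem_bot] at hx0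
    obtain ⟨P, hP, hxP, hPm, hP1⟩ := exists_onedim_prime hA hx0
    let i : ι := ⟨P, hP, hPm, hP1⟩
    refine hxP ?_
    have h1 : ∀ j, x ∈ P ⊔ maximalIdeal A ^ j := fun j => by
      have h2 : x ∈ K (F j) :=
        (Finset.inf_mono (f := Subtype.val) (Finset.subset_biUnion_of_mem F
          (Finset.self_mem_range_succ j))) (Submodule.mem_iInf _ |>.1 hx j)
      have h3 := hF j {i} h2
      simpa [K] using h3
    haveI : IsNoetherianRing (A ⧸ P) := inferInstance
    haveI : IsLocalRing (A ⧸ P) := IsLocalRing.of_surjective' _ Ideal.Quotient.mk_surjective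
    rw [← Ideal.Quotient.eq_zero_iff_mem]
    have h4 : Ideal.Quotient.mk P x ∈ ⨅ j, ((maximalIdeal A).map (Ideal.Quotient.mk P)) ^ j := by
      refine Submodule.mem_iInf _ |>.2 fun j => ?_
      rw [← Ideal.map_pow]
      have h5 := Ideal.mem_map_of_mem (Ideal.Quotient.mk P) (h1 j)
      rwa [Ideal.map_sup, Ideal.map_quotient_self, bot_sup_eq] at h5
    rwa [Ideal.iInf_pow_eq_bot_of_isLocalRing _ ?_, Ideal.mem_bot] at h4
    rw [map_maximalIdeal_of_surjective _ Ideal.Quotient.mk_surjective]
    exact (maximalIdeal.isMaximal (A ⧸ P)).ne_top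
  obtain ⟨s, hs⟩ := S17754.result A I hI hinf n
  let G := (Finset.range (s + 1)).biUnion F
  let P : Fin G.card → Ideal A := fun i => (G.equivFin.symm i).1.1
  have hV : ∀ i, ∃ (V : Type u) (_ : CommRing V) (_ : IsDomain V) (_ : IsDiscreteValuationRing V) (φ : A →+* V),
      IsLocalHom φ ∧ φ.Finite ∧ RingHom.ker φ = P i := fun i => by
    obtain ⟨hP, hPm, hP1⟩ := (G.equivFin.symm i).1.2
    haveI : (P i).IsPrime := hP
    haveI : IsLocalRing (A ⧸ P i) := IsLocalRing.of_surjective' _ Ideal.Quotient.mk_surjective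
    haveI : IsAdicComplete (maximalIdeal (A ⧸ P i)) (A ⧸ P i) := CILib.isAdicComplete_quotient _
    have hnf : ¬ IsField (A ⧸ P i) := fun hf =>
      hPm ((Ideal.Quotient.maximal_of_isField _ hf).eq_of_le (maximalIdeal.isMaximal A).ne_top
        (le_maximalIdeal hP.ne_top))
    haveI : Ring.DimensionLEOne (A ⧸ P i) := ⟨fun {q} hq0 hq => by
      haveI := hq
      have hlt : P i < q.comap (Ideal.Quotient.mk (P i)) := by
        refine lt_of_le_of_ne (fun a ha => ?_) fun e => hq0 ?_
        · show Ideal.Quotient.mk (P i) a ∈ q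
          rw [Ideal.Quotient.eq_zero_iff_mem.2 ha]; exact q.zero_mem
        · rw [← Ideal.map_comap_of_surjective _ Ideal.Quotient.mk_surjective q, ← e, Ideal.map_quotient_self]
      have h2 := congrArg (Ideal.map (Ideal.Quotient.mk (P i))) (hP1 _ (Ideal.IsPrime.comap _) hlt)
      rw [Ideal.map_comap_of_surjective _ Ideal.Quotient.mk_surjective,
        map_maximalIdeal_of_surjective _ Ideal.Quotient.mk_surjective] at h2
      rw [h2]; exact maximalIdeal.isMaximal _⟩
    haveI : IsLocalHom (Ideal.Quotient.mk (P i)) := IsLocalHom.of_surjective _ Ideal.Quotient.mk_surjective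
    obtain ⟨V, _, _, _, φ, hloc, hfin, hinj⟩ := exists_dvr_normalization (A ⧸ P i) hnf
    refine ⟨V, inferInstance, inferInstance, inferInstance, φ.comp (Ideal.Quotient.mk (P i)),
      RingHom.isLocalHom_comp _ _, hfin.comp (RingHom.Finite.of_surjective _ Ideal.Quotient.mk_surjective), ?_⟩
    rw [RingHom.ker_comp_of_injective _ hinj, Ideal.mk_ker]
  choose V iC iD iV φ hloc hfin hker using hV
  refine ⟨G.card, V, iC, iD, iV, φ, fun i => ⟨hloc i, hfin i⟩, le_trans ?_ hs⟩
  refine Finset.le_inf fun j hj => ?_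
  refine (iInf_le _ (G.equivFin ⟨j, hj⟩)).trans ?_
  rw [hker]
  simp [P]

end Groth.Agent.FlatDvrVC5
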