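import Mathlib
import Groth.Agent.LocalCrit.Flatness

/-!
# Removing a nilpotent ideal by saturation
-/

set_option autoImplicit false

universe u

open TensorProduct

namespace Groth.Agent.FlatDvrVC5

open LocalCrit (KeepsInjective)

/-- Kernels of tensored injections are killed by powers of `a`. -/
def AlmostFlat {C : Type u} [CommRing C] (a : C) (Q : Type u) [AddCommGroup Q] [Module C Q] : Prop :=
  ∀ ⦃N N' : Type u⦄ [AddCommGroup N] [Module C N] [AddCommGroup N'] [Module C N'] (g : N →ₗ[C] N'),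
    Function.Injective g → ∀ z, g.rTensor Q z = 0 → ∃ k, a ^ k • z = 0

/-- An ideal closed under division by `a`. -/
def Saturated {C : Type u} [CommRing C] (a : C) (J : Ideal C) : Prop := ∀ c, a * c ∈ J → c ∈ J

/-- The saturation of an ideal. -/
def sat {C : Type u} [CommRing C] (a : C) (J : Ideal C) : Ideal C where
  carrier := {c | ∃ e, a ^ e * c ∈ J}
  zero_mem' := ⟨0, by simp⟩
  add_mem' := by
    rintro x y ⟨e, he⟩ ⟨e', he'⟩
    refine ⟨e + e', ?_⟩
    rw [pow_add, show a ^ e * a ^ e' * (x + y) = a ^ e' * (a ^ e * x) + a ^ e * (a ^ e' * y) by ring]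
    exact add_mem (J.mul_mem_left _ he) (J.mul_mem_left _ he')
  smul_mem' := by
    rintro r x ⟨e, he⟩
    refine ⟨e, ?_⟩
    rw [smul_eq_mul, mul_left_comm]
    exact J.mul_mem_left _ he

section

variable {C : Type u} [CommRing C] {a : C}

theorem saturated_pow {J : Ideal C} (h : Saturated a J) : ∀ (e : ℕ) (c : C), a ^ e * c ∈ J → c ∈ J
  | 0, c, hc => by simpa using hc
  | e + 1, c, hc => saturated_pow h e c (h _ (by rwa [pow_succ', mul_assoc] at hc))

theorem le_sat (J : Ideal C) : J ≤ sat a J := fun c hc => ⟨0, by simpa using hc⟩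

theorem saturated_sat (J : Ideal C) : Saturated a (sat a J) := by
  rintro c ⟨e, he⟩
  exact ⟨e + 1, by rwa [pow_succ, mul_assoc]⟩

theorem sat_le_of_le {I J : Ideal C} (hJ : Saturated a J) (h : I ≤ J) : sat a I ≤ J :=
  fun c ⟨e, he⟩ => saturated_pow hJ e c (h he)

theorem sat_pow_le (I : Ideal C) : ∀ n : ℕ, sat a I ^ n ≤ sat a (I ^ n)
  | 0 => by simp [Ideal.one_eq_top, top_le_iff, Ideal.eq_top_iff_one]; exact le_sat _ Submodule.mem_top
  | n + 1 => by
    rw [pow_succ]
    refine Ideal.mul_le.2 fun x hx y hy => ?_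
    obtain ⟨e, he⟩ := sat_pow_le I n hx
    obtain ⟨e', he'⟩ := hy
    refine ⟨e + e', ?_⟩
    rw [pow_succ, pow_add, show a ^ e * a ^ e' * (x * y) = (a ^ e * x) * (a ^ e' * y) by ring]
    exact Ideal.mul_mem_mul he he'

/-- One step: from a saturated `J` to a saturated `J'` with `J * J ≤ J' ≤ J`. -/
theorem flat_quotient_step (Q : Type u) [AddCommGroup Q] [Module C Q] (hAF : AlmostFlat a Q) {J J' : Ideal C}
    (hle : J' ≤ J) (hsq : J * J ≤ J') (hsat : Saturated a J') (hK : KeepsInjective J Q) :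
    Module.Flat (C ⧸ J') ((C ⧸ J') ⊗[C] Q) := by
  let D := C ⧸ J'
  let Q' := D ⊗[C] Q
  let I : Ideal D := J.map (Ideal.Quotient.mk J')
  let e : ∀ (P : Type u) [AddCommGroup P] [Module C P] [Module D P] [IsScalarTower C D P],
      P ⊗[D] Q' ≃ₗ[C] P ⊗[C] Q := fun P _ _ _ _ =>
    (AlgebraTensorModule.cancelBaseChange C D D P Q).restrictScalars C
  have hnat : ∀ (P P' : Type u) [AddCommGroup P] [Module C P] [Module D P] [IsScalarTower C D P]
      [AddCommGroup P'] [Module C P'] [Module D P'] [IsScalarTower C D P'] (g : P →ₗ[D] P') (x : P ⊗[D] Q'),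
      (g.restrictScalars C).rTensor Q (e P x) = e P' (g.rTensor Q' x) := by
    intro P P' _ _ _ _ _ _ _ _ g x
    induction x using TensorProduct.induction_on with
    | zero => simp
    | tmul p y =>
      induction y using TensorProduct.induction_on with
      | zero => simp
      | tmul c m =>
        obtain ⟨c, rfl⟩ := Ideal.Quotient.mk_surjective c
        simp [e, Q', D]
      | add y z hy hz => simp only [tmul_add, map_add, hy, hz]
    | add x y hx hy => simp only [map_add, hx, hy]
  have hK' : KeepsInjective I Q' := by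
    intro N N' _ _ _ _ g hN hN' hg
    letI : Module C N := Module.compHom N (Ideal.Quotient.mk J')
    letI : Module C N' := Module.compHom N' (Ideal.Quotient.mk J')
    haveI : IsScalarTower C D N := IsScalarTower.of_algebraMap_smul fun _ _ => rfl
    haveI : IsScalarTower C D N' := IsScalarTower.of_algebraMap_smul fun _ _ => rfl
    have hh : Function.Injective ((g.restrictScalars C).rTensor Q) :=
      hK (g.restrictScalars C) (fun {x} ⟨j, hj⟩ => @hN x ⟨_, Ideal.mem_map_of_mem _ hj⟩)
        (fun {x} ⟨j, hj⟩ => @hN' x ⟨_, Ideal.mem_map_of_mem _ hj⟩) hg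
    intro x y hxy
    apply (e N).injective
    apply hh
    rw [hnat, hnat, hxy]
  have hI2 : I * I = ⊥ := by
    rw [← Ideal.map_mul, ← le_bot_iff, ← Ideal.map_quotient_self J']
    exact Ideal.map_mono hsq
  refine LocalCrit.flat_of_isNilpotent I Q' ⟨2, by rw [pow_two, hI2]; rfl⟩ ?_ hK'
  rw [← LinearMap.ker_eq_bot, eq_bot_iff]
  intro z hz
  rw [LinearMap.mem_ker] at hz
  have h1 : (I.subtype.restrictScalars C).rTensor Q (e _ z) = 0 := by rw [hnat, hz, map_zero]
  obtain ⟨k, hk⟩ := hAF (I.subtype.restrictScalars C) I.injective_subtype _ h1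
  have hzk : Ideal.Quotient.mk J' a ^ k • z = 0 := by
    apply (e _).injective
    rw [← map_pow, map_zero, ← hk]
    exact (congrArg (e _) (algebraMap_smul D (a ^ k) z)).trans ((e _).map_smul (a ^ k) z)
  let μ : I →ₗ[D] I := (Ideal.Quotient.mk J' a) • LinearMap.id
  have hμ : Function.Injective μ := by
    rw [← LinearMap.ker_eq_bot, eq_bot_iff]
    rintro ⟨x, hx⟩ hx'
    rw [LinearMap.mem_ker] at hx'
    obtain ⟨c, rfl⟩ := Ideal.Quotient.mk_surjective x
    have h2 : Ideal.Quotient.mk J' a * Ideal.Quotient.mk J' c = 0 := congrArg Subtype.val hx'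
    rw [← map_mul, Ideal.Quotient.eq_zero_iff_mem] at h2
    exact Subtype.ext (Ideal.Quotient.eq_zero_iff_mem.2 (hsat c h2))
  have htor : Module.IsTorsionBySet D I (I : Set D) := by
    rintro ⟨x, hx⟩ ⟨i, hi⟩
    refine Subtype.ext ?_
    have : i * x ∈ I * I := Ideal.mul_mem_mul hi hx
    rwa [hI2, Ideal.mem_bot] at this
  have hμQ := hK' μ htor htor hμ
  have hsmul : ∀ w, μ.rTensor Q' w = Ideal.Quotient.mk J' a • w := fun w => by
    rw [LinearMap.rTensor_smul, LinearMap.rTensor_id]; rfl
  clear h1 hk hz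
  induction k with
  | zero => simpa using hzk
  | succ k ih =>
    refine ih (hμQ ?_)
    rw [hsmul, map_zero, ← mul_smul, ← pow_succ']
    exact hzk

/-- Flatness modulo a saturated nilpotent ideal gives flatness. -/
theorem flat_of_keepsInjective_saturated (ha : ∀ c, a * c = 0 → c = 0) (Q : Type u) [AddCommGroup Q] [Module C Q]
    (hAF : AlmostFlat a Q) :
    ∀ (k : ℕ) (J : Ideal C), Saturated a J → J ^ 2 ^ k = ⊥ → KeepsInjective J Q → Module.Flat C Q
  | 0, J, _, hJ, hK => by
    rw [pow_zero, pow_one] at hJ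
    subst hJ
    refine LocalCrit.flat_of_isNilpotent ⊥ Q ⟨1, by simp⟩ ?_ hK
    intro x y _
    haveI : Subsingleton ((⊥ : Ideal C) ⊗[C] Q) := inferInstance
    exact Subsingleton.elim x y
  | k + 1, J, hsat, hJ, hK => by
    let J' := sat a (J * J)
    have hle : J' ≤ J := sat_le_of_le hsat Ideal.mul_le_right
    have h0 : Saturated a (⊥ : Ideal C) := fun c hc => ha c hc
    have hJ' : J' ^ 2 ^ k = ⊥ := by
      refine le_bot_iff.1 ((sat_pow_le (J * J) (2 ^ k)).trans (sat_le_of_le h0 ?_))
      rw [← pow_two, ← pow_mul, ← pow_succ', hJ]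
    haveI := flat_quotient_step Q hAF hle (le_sat _) (saturated_sat _) hK
    exact flat_of_keepsInjective_saturated ha Q hAF k J' (saturated_sat _) hJ' (LocalCrit.keepsInjective_of_flat J' Q)

end

end Groth.Agent.FlatDvrVC5
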