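import Mathlib
import Groth.Agent.FlatDvrVC5.NilStep

/-!
# Flatness over a reduced Noetherian ring is detected modulo nilpotents after a flat base change
-/

set_option autoImplicit false
set_option linter.style.haveILetI false

universe u

open TensorProduct

namespace Groth.Agent.FlatDvrVC5

section

variable {A S : Type u} [CommRing A] [CommRing S] [Algebra A S]

/-- The kernels of tensored injections are killed outside `q`. -/
def FlatAway (A : Type u) [CommRing A] {S : Type u} [CommRing S] [Algebra A S] (q : Ideal S) (M : Type u)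
    [AddCommGroup M] [Module S M] [Module A M] [IsScalarTower A S M] : Prop :=
  ∀ ⦃N N' : Type u⦄ [AddCommGroup N] [Module A N] [AddCommGroup N'] [Module A N'] (g : N →ₗ[A] N'),
    Function.Injective g → ∀ z : M ⊗[A] N, g.lTensor M z = 0 → ∃ s ∉ q, s • z = 0

theorem flatAway_iff (q : Ideal S) [q.IsPrime] (M : Type u) [AddCommGroup M] [Module S M] [Module A M]
    [IsScalarTower A S M] : FlatAway A q M ↔ Module.Flat A (LocalizedModule q.primeCompl M) := by
  let f := LocalizedModule.mkLinearMap q.primeCompl M
  have hcomm : ∀ (N N' : Type u) [AddCommGroup N] [Module A N] [AddCommGroup N'] [Module A N']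
      (g : N →ₗ[A] N') (z : M ⊗[A] N),
      g.lTensor (LocalizedModule q.primeCompl M) (AlgebraTensorModule.rTensor A N f z) =
        AlgebraTensorModule.rTensor A N' f (g.lTensor M z) := by
    intro N N' _ _ _ _ g z
    induction z using TensorProduct.induction_on with
    | zero => simp
    | tmul m n => simp
    | add x y hx hy => simp only [map_add, hx, hy]
  constructor
  · intro h
    rw [Module.Flat.iff_lTensor_preserves_injective_linearMap]
    intro N N' _ _ _ _ g hg
    rw [← LinearMap.ker_eq_bot, eq_bot_iff]
    intro w hw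
    rw [LinearMap.mem_ker] at hw
    obtain ⟨⟨z, s⟩, hz⟩ := IsLocalizedModule.surj q.primeCompl (AlgebraTensorModule.rTensor A N f) w
    have hs : g.lTensor (LocalizedModule q.primeCompl M) ((s : S) • w) = 0 :=
      ((AlgebraTensorModule.lTensor S (LocalizedModule q.primeCompl M) g).map_smul (s : S) w).trans (by
        show (s : S) • g.lTensor (LocalizedModule q.primeCompl M) w = 0
        rw [hw, smul_zero])
    rw [show ((s : S) • w) = AlgebraTensorModule.rTensor A N f z from hz, hcomm] at hs
    obtain ⟨⟨t, ht⟩, htz⟩ := (IsLocalizedModule.eq_zero_iff q.primeCompl (AlgebraTensorModule.rTensor A N' f)).1 hs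
    have h2 : g.lTensor M (t • z) = 0 :=
      ((AlgebraTensorModule.lTensor S M g).map_smul t z).trans htz
    obtain ⟨r, hr, hrz⟩ := h g hg _ h2
    have h3 : AlgebraTensorModule.rTensor A N f z = 0 :=
      (IsLocalizedModule.eq_zero_iff q.primeCompl _).2 ⟨⟨r * t, q.primeCompl.mul_mem hr ht⟩, by
        show (r * t) • z = 0
        rw [mul_smul]; exact hrz⟩
    rw [h3] at hz
    rw [Submodule.mem_bot]
    exact (IsLocalizedModule.smul_inj (AlgebraTensorModule.rTensor A N f) s w 0).1 (by rw [smul_zero]; exact hz)
  · intro h N N' _ _ _ _ g hg z hz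
    have h1 : AlgebraTensorModule.rTensor A N f z = 0 := by
      apply Module.Flat.lTensor_preserves_injective_linearMap (M := LocalizedModule q.primeCompl M) g hg
      rw [hcomm, hz, map_zero, map_zero]
    obtain ⟨⟨t, ht⟩, htz⟩ := (IsLocalizedModule.eq_zero_iff q.primeCompl _).1 h1
    exact ⟨t, ht, htz⟩

end

/-- Localization preserves flatness over a third ring. -/
theorem flat_tensor_of_flat {C T T' Y : Type u} [CommRing C] [CommRing T] [CommRing T'] [Algebra C T] [Algebra T T']
    [Algebra C T'] [IsScalarTower C T T'] [Module.Flat T T'] [AddCommGroup Y] [Module T Y] [Module C Y]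
    [IsScalarTower C T Y] [Module.Flat C Y] : Module.Flat C (T' ⊗[T] Y) := by
  rw [Module.Flat.iff_lTensor_preserves_injective_linearMap]
  intro N N' _ _ _ _ g hg
  have h1 : Function.Injective (AlgebraTensorModule.lTensor T Y g) :=
    Module.Flat.lTensor_preserves_injective_linearMap (M := Y) g hg
  have h2 := Module.Flat.lTensor_preserves_injective_linearMap (M := T') (AlgebraTensorModule.lTensor T Y g) h1
  let e := AlgebraTensorModule.assoc C T T T' Y N
  let e' := AlgebraTensorModule.assoc C T T T' Y N'
  have h3 : ∀ z, (AlgebraTensorModule.lTensor T Y g).lTensor T' (e z) = e' (g.lTensor (T' ⊗[T] Y) z) := by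
    intro z
    induction z using TensorProduct.induction_on with
    | zero => simp
    | tmul x n =>
      induction x using TensorProduct.induction_on with
      | zero => simp
      | tmul a b => simp [e, e']
      | add x y hx hy => simp only [add_tmul, map_add, hx, hy]
    | add x y hx hy => simp only [map_add, hx, hy]
  intro x y hxy
  exact e.injective (h2 (by rw [h3, h3, hxy]))

variable {A S C : Type u} [CommRing A] [CommRing S] [CommRing C] [Algebra A S] [Algebra A C]

/-- Over a minimal prime of a reduced ring every module is flat. -/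
theorem flatAway_of_minimal [IsReduced A] (M : Type u) [AddCommGroup M] [Module S M] [Module A M] [IsScalarTower A S M]
    (Q : Ideal S) [Q.IsPrime] (hmin : Q.comap (algebraMap A S) ∈ minimalPrimes A) : FlatAway A Q M := by
  rw [flatAway_iff]
  let q := Q.comap (algebraMap A S)
  haveI : q.IsPrime := Ideal.IsPrime.comap _
  haveI : Q.LiesOver q := ⟨rfl⟩
  letI := Localization.AtPrime.algebraOfLiesOver q Q
  let Aq := Localization.AtPrime q
  let Y := LocalizedModule Q.primeCompl M
  letI : Module Aq Y := Module.compHom Y (algebraMap Aq (Localization.AtPrime Q))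
  haveI : IsScalarTower A Aq Y := IsScalarTower.of_algebraMap_smul fun a y => by
    show algebraMap Aq (Localization.AtPrime Q) (algebraMap A Aq a) • y = a • y
    rw [← IsScalarTower.algebraMap_apply, IsScalarTower.algebraMap_apply A S (Localization.AtPrime Q),
      algebraMap_smul, algebraMap_smul]
  haveI : Ring.KrullDimLE 0 Aq := Ring.KrullDimLE.mk₀ fun P hP => by
    have hle : P.comap (algebraMap A Aq) ≤ q := fun x hx => by_contra fun hxq =>
      hP.ne_top (Ideal.eq_top_of_isUnit_mem P hx (IsLocalization.map_units Aq (⟨x, hxq⟩ : q.primeCompl)))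
    have heq : P.comap (algebraMap A Aq) = q :=
      le_antisymm hle (hmin.2 ⟨Ideal.IsPrime.comap _, bot_le⟩ hle)
    rw [← IsLocalization.map_comap q.primeCompl Aq P, show P.under A = q from heq, Localization.AtPrime.map_eq_maximalIdeal]
    exact IsLocalRing.maximalIdeal.isMaximal Aq
  haveI : IsReduced Aq := inferInstance
  letI : Field Aq := (Ring.KrullDimLE.isField_of_isReduced (R := Aq)).toField
  haveI : Module.Flat Aq Y := inferInstance
  haveI : Module.Flat A Aq := IsLocalization.flat Aq q.primeCompl
  exact Module.Flat.trans A Aq Y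

/-- A localization inherits `KeepsInjective`. -/
theorem keepsInjective_tensor {T T' Y : Type u} [CommRing T] [CommRing T'] [Algebra C T] [Algebra T T']
    [Algebra C T'] [IsScalarTower C T T'] [Module.Flat T T'] [AddCommGroup Y] [Module T Y] [Module C Y]
    [IsScalarTower C T Y] {J : Ideal C} (hY : LocalCrit.KeepsInjective J Y) :
    LocalCrit.KeepsInjective J (T' ⊗[T] Y) := by
  intro N N' _ _ _ _ g hN hN' hg
  have h0 := hY g hN hN' hg
  have h1 : Function.Injective (AlgebraTensorModule.lTensor T Y g) := by
    intro x y hxy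
    apply (TensorProduct.comm C Y N).injective
    apply h0
    have key : ∀ z, g.rTensor Y (TensorProduct.comm C Y N z) = TensorProduct.comm C Y N' (g.lTensor Y z) := by
      intro z
      induction z using TensorProduct.induction_on with
      | zero => simp
      | tmul a b => simp
      | add a b ha hb => simp only [map_add, ha, hb]
    rw [key, key]
    exact congrArg _ hxy
  have h2 := Module.Flat.lTensor_preserves_injective_linearMap (M := T') (AlgebraTensorModule.lTensor T Y g) h1
  let e := fun (P : Type u) [AddCommGroup P] [Module C P] =>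
    (TensorProduct.comm C P (T' ⊗[T] Y)).trans ((AlgebraTensorModule.assoc C T T T' Y P).restrictScalars C)
  have h3 : ∀ z, (AlgebraTensorModule.lTensor T Y g).lTensor T' (e N z) = e N' (g.rTensor (T' ⊗[T] Y) z) := by
    intro z
    induction z using TensorProduct.induction_on with
    | zero => simp
    | tmul n x =>
      induction x using TensorProduct.induction_on with
      | zero => simp
      | tmul a b => simp [e]
      | add x y hx hy => simp only [tmul_add, map_add, hx, hy]
    | add x y hx hy => simp only [map_add, hx, hy]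
  intro x y hxy
  exact (e N).injective (h2 (by rw [h3, h3, hxy]))

/-- A flat base change detects flatness away from the image point. -/
theorem flatAway_of_flat_tensor {T : Type u} [CommRing T] [Algebra S T] [Algebra A T] [IsScalarTower A S T]
    [Module.Flat S T] (M : Type u) [AddCommGroup M] [Module S M] [Module A M] [IsScalarTower A S M]
    [Module.Flat A (T ⊗[S] M)] (Q' : Ideal T) (hQ' : Q' ≠ ⊤) :
    FlatAway A (Q'.comap (algebraMap S T)) M := by
  intro N N' _ _ _ _ g hg z hz
  by_contra! hcon
  let ψ : T ⊗[S] (M ⊗[A] N) ≃ₗ[S] (T ⊗[S] M) ⊗[A] N := (AlgebraTensorModule.assoc A S S T M N).symm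
  have h1 : ψ (1 ⊗ₜ z) = 0 := by
    apply Module.Flat.lTensor_preserves_injective_linearMap (M := T ⊗[S] M) g hg
    rw [map_zero]
    have key : ∀ w, g.lTensor (T ⊗[S] M) (ψ w) = (AlgebraTensorModule.assoc A S S T M N').symm
        ((AlgebraTensorModule.lTensor S M g).lTensor T w) := by
      intro w
      induction w using TensorProduct.induction_on with
      | zero => simp
      | tmul t x =>
        induction x using TensorProduct.induction_on with
        | zero => simp
        | tmul a b => simp [ψ]
        | add x y hx hy => simp only [tmul_add, map_add, hx, hy]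
      | add x y hx hy => simp only [map_add, hx, hy]
    rw [key, LinearMap.lTensor_tmul, show (AlgebraTensorModule.lTensor S M g) z = 0 from hz, tmul_zero, map_zero]
  have h2 : (1 : T) ⊗ₜ[S] z = 0 := ψ.injective (h1.trans (map_zero _).symm)
  let φ : S →ₗ[S] M ⊗[A] N := LinearMap.toSpanSingleton S _ z
  have hex := Module.Flat.lTensor_exact T (LinearMap.exact_subtype_ker_map φ)
  obtain ⟨w, hw⟩ := (hex ((1 : T) ⊗ₜ[S] (1 : S))).1 (by
    rw [LinearMap.lTensor_tmul]
    simp only [φ, LinearMap.toSpanSingleton_apply, one_smul, h2])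
  refine hQ' ((Ideal.eq_top_iff_one Q').2 ?_)
  have h3 : ∀ w, TensorProduct.rid S T ((LinearMap.ker φ).subtype.lTensor T w) ∈ Q' := by
    intro w
    induction w using TensorProduct.induction_on with
    | zero => simp
    | tmul t c =>
      rw [LinearMap.lTensor_tmul, TensorProduct.rid_tmul, Submodule.subtype_apply, Algebra.smul_def]
      exact Ideal.mul_mem_right _ _ (Ideal.mem_comap.1 (by_contra fun hc => hcon c.1 hc
        (LinearMap.mem_ker.1 c.2)))
    | add x y hx hy => simp only [map_add]; exact add_mem hx hy
  have h4 := h3 w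
  rwa [hw, TensorProduct.rid_tmul, one_smul] at h4

/-- Flatness modulo the nilradical after a flat base change descends. -/
theorem flatAway_of_flat_mod_nilradical [IsNoetherianRing A] [IsReduced A] [IsNoetherianRing C] [Module.Flat A C]
    (M : Type u) [AddCommGroup M] [Module S M] [Module A M] [IsScalarTower A S M]
    (S' : Type u) [CommRing S'] [Algebra C S'] [Algebra S S'] [Algebra A S'] [IsScalarTower A C S']
    [IsScalarTower A S S'] [Module.Flat S S']
    (hbc : ∀ (X : Type u) [AddCommGroup X] [Module S X] [Module A X] [IsScalarTower A S X],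
      Module.Flat A X → Module.Flat C (S' ⊗[S] X))
    (hnil : Module.Flat (C ⧸ nilradical C) ((C ⧸ nilradical C) ⊗[C] (S' ⊗[S] M)))
    (q' : Ideal S') [q'.IsPrime] : FlatAway A (q'.comap (algebraMap S S')) M := by
  classical
  induction hn : (q'.comap (algebraMap A S')).height using WellFoundedLT.induction generalizing q' with
  | _ n ih =>
  let q := q'.comap (algebraMap A S')
  haveI : q.IsPrime := Ideal.IsPrime.comap _
  by_cases hmin : q ∈ minimalPrimes A
  · refine flatAway_of_minimal M _ ?_
    rwa [Ideal.comap_comap, ← IsScalarTower.algebraMap_eq]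
  -- a nonzerodivisor in `q`
  obtain ⟨a, haq, ha⟩ : ∃ a ∈ q, ∀ P ∈ minimalPrimes A, a ∉ P := by
    have hfin := minimalPrimes.finite_of_isNoetherianRing A
    have hsub : ¬ (q : Set A) ⊆ ⋃ I ∈ (hfin.toFinset : Set (Ideal A)), (I : Set A) := by
      rw [Ideal.subset_union_prime ⊥ ⊥ fun I hI _ _ => ((Set.Finite.mem_toFinset hfin).1 hI).1.1]
      rintro ⟨I, hI, hle⟩
      have hI' := (Set.Finite.mem_toFinset hfin).1 hI
      exact hmin (le_antisymm (hI'.2 ⟨inferInstance, bot_le⟩ hle) hle ▸ hI')
    obtain ⟨a, haq, ha⟩ := Set.not_subset.1 hsub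
    exact ⟨a, haq, fun P hP h => ha (Set.mem_biUnion ((Set.Finite.mem_toFinset hfin).2 hP) h)⟩
  have hareg : ∀ c : A, a * c = 0 → c = 0 := fun c hc => IsReduced.eq_zero c (by
    rw [← mem_nilradical, nilradical, Ideal.radical_eq_sInf, Submodule.mem_sInf]
    rintro P ⟨-, hP⟩
    haveI := hP
    obtain ⟨P₀, hP₀, hle⟩ := Ideal.exists_minimalPrimes_le (I := (⊥ : Ideal A)) (J := P) bot_le
    exact hle ((hP₀.1.1.mem_or_mem (hc ▸ P₀.zero_mem : a * c ∈ P₀)).resolve_left (ha P₀ hP₀)))
  let aC := algebraMap A C a
  have haC : ∀ c, aC * c = 0 → c = 0 := by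
    intro c hc
    have h1 : Function.Injective ((LinearMap.lsmul A A a).lTensor C) :=
      Module.Flat.lTensor_preserves_injective_linearMap (M := C) _ (fun x y h => sub_eq_zero.1 (hareg _ (by
        rw [mul_sub]; exact sub_eq_zero.2 h)))
    have h2 : (LinearMap.lsmul A A a).lTensor C (c ⊗ₜ 1) = 0 := by
      rw [LinearMap.lTensor_tmul, LinearMap.lsmul_apply, TensorProduct.tmul_smul, smul_tmul',
        Algebra.smul_def, show algebraMap A C a * c = 0 from hc, zero_tmul]
    have h3 := congrArg (TensorProduct.rid A C) (h1 (h2.trans (map_zero _).symm))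
    simpa using h3
  let S'' := Localization.AtPrime q'
  haveI : Module.Flat S S'' := Module.Flat.trans S S' S''
  have hbc'' : ∀ (X : Type u) [AddCommGroup X] [Module S X] [Module A X] [IsScalarTower A S X],
      Module.Flat A X → Module.Flat C (S'' ⊗[S] X) := by
    intro X _ _ _ _ hX
    haveI := hbc X hX
    haveI := flat_tensor_of_flat (C := C) (T := S') (T' := S'') (Y := S' ⊗[S] X)
    exact Module.Flat.of_linearEquiv
      ((AlgebraTensorModule.cancelBaseChange S S' S'' S'' X).restrictScalars C).symm
  let Q := S'' ⊗[S] M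
  have hK : LocalCrit.KeepsInjective (nilradical C) (S'' ⊗[S'] (S' ⊗[S] M)) :=
    keepsInjective_tensor (LocalCrit.keepsInjective_of_flat _ _)
  have hKQ : LocalCrit.KeepsInjective (nilradical C) Q := by
    intro N N' _ _ _ _ g hN hN' hg
    let e := (AlgebraTensorModule.cancelBaseChange S S' S'' S'' M).restrictScalars C
    have hc : ∀ z, g.rTensor Q (e.lTensor N z) = e.lTensor N' (g.rTensor _ z) := fun z => by
      show (g.rTensor Q ∘ₗ (e : _ →ₗ[C] Q).lTensor N) z = ((e : _ →ₗ[C] Q).lTensor N' ∘ₗ g.rTensor _) z
      rw [LinearMap.rTensor_comp_lTensor, LinearMap.lTensor_comp_rTensor]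
    intro x y hxy
    obtain ⟨x, rfl⟩ := (e.lTensor N).surjective x
    obtain ⟨y, rfl⟩ := (e.lTensor N).surjective y
    rw [hc, hc] at hxy
    exact congrArg _ (hK g hN hN' hg ((e.lTensor N').injective hxy))
  have hAF : AlmostFlat aC Q := by
    intro N N' _ _ _ _ g hg z hz
    let z' : Q ⊗[C] N := TensorProduct.comm C N Q z
    have hz' : g.lTensor Q z' = 0 := by
      have key : ∀ z, g.lTensor Q (TensorProduct.comm C N Q z) = TensorProduct.comm C N' Q (g.rTensor Q z) := by
        intro z
        induction z using TensorProduct.induction_on with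
        | zero => simp
        | tmul a b => simp
        | add a b ha hb => simp only [map_add, ha, hb]
      rw [key, hz, map_zero]
    let I : Ideal S'' := (LinearMap.toSpanSingleton S'' (Q ⊗[C] N) z').ker
    suffices algebraMap C S'' aC ∈ I.radical by
      obtain ⟨k, hk⟩ := this
      refine ⟨k, (TensorProduct.comm C N Q).injective ?_⟩
      rw [map_zero, map_smul, ← algebraMap_smul S'' (aC ^ k), map_pow]
      exact hk
    rw [Ideal.radical_eq_sInf, Submodule.mem_sInf]
    rintro P ⟨hIP, hP⟩
    by_contra haP
    haveI : Ideal.IsPrime P := hP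
    let P' : Ideal S' := Ideal.comap (algebraMap S' S'') P
    haveI : P'.IsPrime := Ideal.IsPrime.comap _
    have hP'q : P' ≤ q' := fun x hx => by_contra fun hxq => hP.ne_top
      (Ideal.eq_top_of_isUnit_mem P hx (IsLocalization.map_units S'' (⟨x, hxq⟩ : q'.primeCompl)))
    have hlt : P'.comap (algebraMap A S') < q := by
      refine lt_of_le_of_ne (Ideal.comap_mono hP'q) fun e => haP ?_
      have : a ∈ P'.comap (algebraMap A S') := e ▸ haq
      rw [Ideal.mem_comap, Ideal.mem_comap, ← IsScalarTower.algebraMap_apply A S' S''] at this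
      rwa [← IsScalarTower.algebraMap_apply A C S'']
    haveI : (P'.comap (algebraMap A S')).IsPrime := Ideal.IsPrime.comap _
    have hlt' : (P'.comap (algebraMap A S')).height < n := hn ▸ Ideal.height_strict_mono_of_isPrime hlt
    have hQ₀ := ih _ hlt' P' rfl
    let Q₀ := P'.comap (algebraMap S S')
    haveI : Q₀.IsPrime := Ideal.IsPrime.comap _
    rw [flatAway_iff] at hQ₀
    haveI := hbc'' _ hQ₀
    let f := LocalizedModule.mkLinearMap Q₀.primeCompl M
    let fQ : Q →ₗ[S''] S'' ⊗[S] LocalizedModule Q₀.primeCompl M := f.baseChange S''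
    let fQC : Q →ₗ[C] S'' ⊗[S] LocalizedModule Q₀.primeCompl M := fQ.restrictScalars C
    let mS : S'' ⊗[S] M →ₗ[S] S'' ⊗[S] LocalizedModule Q₀.primeCompl M := f.lTensor S''
    have h1 : fQC.rTensor N z' = 0 := by
      apply Module.Flat.lTensor_preserves_injective_linearMap (M := S'' ⊗[S] LocalizedModule Q₀.primeCompl M) g hg
      rw [map_zero]
      show (g.lTensor _ ∘ₗ fQC.rTensor N) z' = 0
      rw [LinearMap.lTensor_comp_rTensor, ← LinearMap.rTensor_comp_lTensor, LinearMap.comp_apply, hz', map_zero]
    haveI hmS : IsLocalizedModule Q₀.primeCompl mS := by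
      have h0 : mS = (TensorProduct.comm S _ S'').toLinearMap ∘ₗ
          (AlgebraTensorModule.rTensor S S'' f) ∘ₗ (TensorProduct.comm S S'' M).toLinearMap := by
        refine TensorProduct.ext' fun t x => ?_
        simp [mS]
      rw [h0]
      infer_instance
    haveI : IsLocalizedModule Q₀.primeCompl (fQ.restrictScalars S) := by
      have h0 : fQ.restrictScalars S = mS := TensorProduct.ext' fun t x => by simp [fQ, mS]
      rw [h0]; exact hmS
    haveI := IsLocalizedModule.of_restrictScalars Q₀.primeCompl fQ
    let M₀ := Algebra.algebraMapSubmonoid S'' Q₀.primeCompl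
    haveI : IsLocalizedModule M₀ (AlgebraTensorModule.rTensor C N fQ) := inferInstance
    obtain ⟨⟨_, s, hs, rfl⟩, hsz⟩ :=
      (IsLocalizedModule.eq_zero_iff M₀ (AlgebraTensorModule.rTensor C N fQ)).1
        (show AlgebraTensorModule.rTensor C N fQ z' = 0 from h1)
    refine hs ?_
    show algebraMap S S' s ∈ P'
    show algebraMap S' S'' (algebraMap S S' s) ∈ P
    rw [← IsScalarTower.algebraMap_apply]
    exact hIP hsz
  haveI hQflat : Module.Flat C Q := by
    obtain ⟨k, hk⟩ := IsNoetherianRing.isNilpotent_nilradical C
    refine flat_of_keepsInjective_saturated haC Q hAF k (nilradical C) (fun c hc => ?_) ?_ hKQ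
    · obtain ⟨e, he⟩ := hc
      rw [mul_pow] at he
      refine ⟨e, ?_⟩
      clear hAF hKQ
      induction e generalizing c with
      | zero => simpa using he
      | succ e _ =>
        have : ∀ (j : ℕ) (d : C), aC ^ j * d = 0 → d = 0 := by
          intro j
          induction j with
          | zero => simp
          | succ j ihj => intro d hd; exact haC d (ihj _ (by rwa [← mul_assoc, ← pow_succ]))
        exact this _ _ he
    · refine le_bot_iff.1 ((Ideal.pow_le_pow_right (Nat.lt_two_pow_self).le).trans ?_)
      rw [hk]; rfl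
  haveI : Module.Flat A Q := Module.Flat.trans A C Q
  have hfin := flatAway_of_flat_tensor (A := A) (S := S) (T := S'') M (IsLocalRing.maximalIdeal S'')
    (IsLocalRing.maximalIdeal.isMaximal S'').ne_top
  have he : (IsLocalRing.maximalIdeal S'').comap (algebraMap S S'') = q'.comap (algebraMap S S') := by
    rw [IsScalarTower.algebraMap_eq S S' S'', ← Ideal.comap_comap]
    exact congrArg (Ideal.comap (algebraMap S S')) (IsLocalization.AtPrime.comap_maximalIdeal S'' q')
  rwa [he] at hfin

end Groth.Agent.FlatDvrVC5
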