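import Mathlib
import Groth.Agent.FlatDvrVC5.Descent

/-!
# Transfer of kernels between a completion and a finite extension of it
-/

set_option autoImplicit false
set_option linter.style.haveILetI false

universe u

open TensorProduct

namespace Groth.Agent.FlatDvrVC5

attribute [local instance] Algebra.TensorProduct.rightAlgebra

section

variable {A : Type u} [CommRing A] (C : Type u) [CommRing C] [Algebra A C] {S : Type u} [CommRing S] [Algebra A S]
variable (M : Type u) [AddCommGroup M] [Module S M] [Module A M] [IsScalarTower A S M]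

theorem cancel_tmul (c : C) (s : S) (m : M) :
    Algebra.IsPushout.cancelBaseChange A C S (C ⊗[A] S) M ((c ⊗ₜ[A] s) ⊗ₜ[S] m) = c ⊗ₜ[A] (s • m) := by
  apply (Algebra.IsPushout.cancelBaseChange A C S (C ⊗[A] S) M).symm.injective
  rw [LinearEquiv.symm_apply_apply, Algebra.IsPushout.cancelBaseChange_symm_tmul, ← TensorProduct.smul_tmul,
    Algebra.smul_def]
  show _ = ((1 : C) ⊗ₜ[A] s * c ⊗ₜ[A] (1 : S)) ⊗ₜ[S] m
  rw [Algebra.TensorProduct.tmul_mul_tmul, one_mul, mul_one]

variable (N : Type u) [AddCommGroup N] [Module A N] [Module C N] [IsScalarTower A C N]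

/-- The comparison with the tensor product over the base. -/
noncomputable def toBase : ((C ⊗[A] S) ⊗[S] M) ⊗[C] N ≃ₗ[A] N ⊗[A] M :=
  ((AlgebraTensorModule.congr (Algebra.IsPushout.cancelBaseChange A C S (C ⊗[A] S) M)
      (LinearEquiv.refl C N)).trans ((TensorProduct.comm C _ N).trans
    (AlgebraTensorModule.cancelBaseChange A C C N M))).restrictScalars A

theorem toBase_tmul (c : C) (s : S) (m : M) (n : N) :
    toBase C M N (((c ⊗ₜ[A] s) ⊗ₜ[S] m) ⊗ₜ[C] n) = (c • n) ⊗ₜ[A] (s • m) := by
  simp [toBase, cancel_tmul]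

theorem toBase_smul (c : C) (s : S) (z : ((C ⊗[A] S) ⊗[S] M) ⊗[C] N) :
    toBase C M N ((c ⊗ₜ[A] s) • z) =
      TensorProduct.map ((LinearMap.lsmul C N c).restrictScalars A) ((LinearMap.lsmul S M s).restrictScalars A)
        (toBase C M N z) := by
  induction z using TensorProduct.induction_on with
  | zero => simp
  | add x y hx hy => simp only [smul_add, map_add, hx, hy]
  | tmul y n =>
    induction y using TensorProduct.induction_on with
    | zero => simp
    | add x y hx hy => simp only [add_tmul, smul_add, map_add, hx, hy]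
    | tmul t m =>
      induction t using TensorProduct.induction_on with
      | zero => simp
      | add x y hx hy => simp only [add_tmul, smul_add, map_add, hx, hy]
      | tmul c' s' =>
        rw [smul_tmul', smul_tmul', smul_eq_mul, Algebra.TensorProduct.tmul_mul_tmul, toBase_tmul, toBase_tmul,
          TensorProduct.map_tmul]
        simp only [LinearMap.restrictScalars_apply, LinearMap.lsmul_apply, mul_smul]

variable {N} {N' : Type u} [AddCommGroup N'] [Module A N'] [Module C N'] [IsScalarTower A C N']

theorem toBase_lTensor (g : N →ₗ[C] N') (z : ((C ⊗[A] S) ⊗[S] M) ⊗[C] N) :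
    toBase C M N' (g.lTensor _ z) = (g.restrictScalars A).rTensor M (toBase C M N z) := by
  induction z using TensorProduct.induction_on with
  | zero => simp
  | add x y hx hy => simp only [map_add, hx, hy]
  | tmul y n =>
    induction y using TensorProduct.induction_on with
    | zero => simp
    | add x y hx hy => simp only [add_tmul, map_add, hx, hy]
    | tmul t m =>
      induction t using TensorProduct.induction_on with
      | zero => simp
      | add x y hx hy => simp only [add_tmul, map_add, hx, hy]
      | tmul c' s' =>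
        rw [LinearMap.lTensor_tmul, toBase_tmul, toBase_tmul, LinearMap.rTensor_tmul, LinearMap.restrictScalars_apply,
          map_smul]

/-- The base change of a flat module. -/
theorem flat_cancel [Module.Flat A M] : Module.Flat C ((C ⊗[A] S) ⊗[S] M) :=
  Module.Flat.of_linearEquiv (Algebra.IsPushout.cancelBaseChange A C S (C ⊗[A] S) M)

end

/-- A map whose kernel is killed outside `q` becomes injective after localizing at `q`. -/
theorem injective_lTensor_of_ker_killed {T : Type u} [CommRing T] (q : Ideal T) [q.IsPrime] (T' : Type u)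
    [CommRing T'] [Algebra T T'] [IsLocalization.AtPrime T' q] {Z Z' : Type u} [AddCommGroup Z] [Module T Z]
    [AddCommGroup Z'] [Module T Z'] (f : Z →ₗ[T] Z') (hf : ∀ z, f z = 0 → ∃ t ∉ q, t • z = 0) :
    Function.Injective (f.lTensor T') := by
  haveI h1 : IsLocalizedModule q.primeCompl (TensorProduct.mk T T' Z 1) :=
    (isLocalizedModule_iff_isBaseChange q.primeCompl T' _).2 (TensorProduct.isBaseChange T Z T')
  haveI h2 : IsLocalizedModule q.primeCompl (TensorProduct.mk T T' Z' 1) :=
    (isLocalizedModule_iff_isBaseChange q.primeCompl T' _).2 (TensorProduct.isBaseChange T Z' T')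
  rw [← LinearMap.ker_eq_bot, eq_bot_iff]
  intro w hw
  rw [LinearMap.mem_ker] at hw
  obtain ⟨⟨z, s⟩, hz⟩ := IsLocalizedModule.surj q.primeCompl (TensorProduct.mk T T' Z 1) w
  have h3 : TensorProduct.mk T T' Z' 1 (f z) = 0 := by
    have : f.lTensor T' (TensorProduct.mk T T' Z 1 z) = 0 := by
      rw [← hz, Submonoid.smul_def, map_smul, hw, smul_zero]
    simpa using this
  obtain ⟨⟨t, ht⟩, htz⟩ := (IsLocalizedModule.eq_zero_iff q.primeCompl (TensorProduct.mk T T' Z' 1)).1 h3
  obtain ⟨r, hr, hrz⟩ := hf (t • z) (by rw [map_smul]; exact htz)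
  have h4 : TensorProduct.mk T T' Z 1 z = 0 :=
    (IsLocalizedModule.eq_zero_iff q.primeCompl _).2 ⟨⟨r * t, q.primeCompl.mul_mem hr ht⟩, by
      show (r * t) • z = 0
      rw [mul_smul]; exact hrz⟩
  rw [h4] at hz
  rw [Submodule.mem_bot]
  exact (IsLocalizedModule.smul_inj (TensorProduct.mk T T' Z 1) s w 0).1 (by rw [smul_zero]; exact hz)

section

variable {A C V S : Type u} [CommRing A] [CommRing C] [CommRing V] [CommRing S] [Algebra A C] [Algebra A V]
  [Algebra A S] [Algebra C V] [IsScalarTower A C V]

/-- Kernels over the finite extension `V` are killed outside `x`. -/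
theorem exists_smul_eq_zero [IsLocalRing C] [IsLocalRing V] [Algebra.IsIntegral C V]
    (M : Type u) [AddCommGroup M] [Module S M] [Module A M] [IsScalarTower A S M]
    (x : Ideal (C ⊗[A] S)) [x.IsPrime]
    (hxC : x.comap (Algebra.TensorProduct.includeLeftRingHom) = IsLocalRing.maximalIdeal C)
    (H : ∀ P : Ideal (V ⊗[A] S), P.IsPrime →
      P.comap (Algebra.TensorProduct.includeLeftRingHom) = IsLocalRing.maximalIdeal V →
      P.comap (Algebra.TensorProduct.includeRight : S →ₐ[A] V ⊗[A] S).toRingHom =
        x.comap (Algebra.TensorProduct.includeRight : S →ₐ[A] C ⊗[A] S).toRingHom →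
      FlatAway V P ((V ⊗[A] S) ⊗[S] M))
    {N N' : Type u} [AddCommGroup N] [AddCommGroup N'] [Module A N] [Module A N'] [Module C N] [Module C N']
    [Module V N] [Module V N'] [IsScalarTower A C N] [IsScalarTower A C N'] [IsScalarTower A V N]
    [IsScalarTower A V N'] [IsScalarTower C V N] [IsScalarTower C V N'] (g : N →ₗ[V] N') (hg : Function.Injective g)
    (z : ((C ⊗[A] S) ⊗[S] M) ⊗[C] N) (hz : (g.restrictScalars C).lTensor _ z = 0) :
    ∃ t ∉ x, t • z = 0 := by
  let θ : C ⊗[A] S →ₐ[A] V ⊗[A] S :=
    Algebra.TensorProduct.map (IsScalarTower.toAlgHom A C V) (AlgHom.id A S)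
  let w := (toBase (A := A) (S := S) V M N).symm (toBase C M N z)
  have hw : g.lTensor _ w = 0 := by
    apply (toBase V M N').injective
    rw [toBase_lTensor, LinearEquiv.apply_symm_apply, map_zero]
    have h := (toBase_lTensor C M (g.restrictScalars C) z).symm
    rw [hz, map_zero] at h
    exact h
  have heq : ∀ t, toBase V M N (θ t • w) = toBase C M N (t • z) := by
    intro t
    induction t using TensorProduct.induction_on with
    | zero => simp
    | add a b ha hb => simp only [map_add, add_smul, ha, hb]
    | tmul c s =>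
      rw [show θ (c ⊗ₜ[A] s) = algebraMap C V c ⊗ₜ[A] s from rfl, toBase_smul, toBase_smul,
        LinearEquiv.apply_symm_apply]
      congr 2
      ext n
      simp
  let J : Ideal (V ⊗[A] S) := (LinearMap.toSpanSingleton (V ⊗[A] S) _ w).ker
  suffices ¬ J.comap θ.toRingHom ≤ x by
    obtain ⟨t, ht, htx⟩ := SetLike.not_le_iff_exists.1 this
    refine ⟨t, htx, (toBase C M N).injective ?_⟩
    rw [← heq, show θ t • w = 0 from ht, map_zero, map_zero]
  intro hJ
  letI : Algebra (C ⊗[A] S) (V ⊗[A] S) := θ.toRingHom.toAlgebra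
  haveI : Algebra.IsIntegral (C ⊗[A] S) (V ⊗[A] S) := by
    refine ⟨fun y => ?_⟩
    induction y using TensorProduct.induction_on with
    | zero => exact isIntegral_zero
    | add a b ha hb => exact ha.add hb
    | tmul v s =>
      rw [show v ⊗ₜ[A] s = v ⊗ₜ[A] (1 : S) * (1 : V) ⊗ₜ[A] s by simp]
      refine IsIntegral.mul ?_ ?_
      · exact IsIntegral.map_of_comp_eq (Algebra.TensorProduct.includeLeftRingHom : C →+* C ⊗[A] S)
          (Algebra.TensorProduct.includeLeftRingHom : V →+* V ⊗[A] S) (RingHom.ext fun c => by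
            simp [RingHom.algebraMap_toAlgebra, θ]) (Algebra.IsIntegral.isIntegral (R := C) v)
      · rw [show (1 : V) ⊗ₜ[A] s = algebraMap (C ⊗[A] S) (V ⊗[A] S) (1 ⊗ₜ s) by
          simp [RingHom.algebraMap_toAlgebra, θ]]
        exact isIntegral_algebraMap
  obtain ⟨P, hJP, hP, hPx⟩ := Ideal.exists_ideal_over_prime_of_isIntegral x J hJ
  haveI : P.IsPrime := hP
  have hPV : P.comap (Algebra.TensorProduct.includeLeftRingHom : V →+* V ⊗[A] S) = IsLocalRing.maximalIdeal V := by
    refine IsLocalRing.eq_maximalIdeal (Ideal.isMaximal_of_isIntegral_of_isMaximal_comap (R := C) _ ?_)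
    have : ((P.comap (Algebra.TensorProduct.includeLeftRingHom : V →+* V ⊗[A] S)).comap (algebraMap C V)) =
        IsLocalRing.maximalIdeal C := by
      rw [← hxC, ← hPx, Ideal.comap_comap, Ideal.comap_comap]
      congr 1
    rw [this]; exact IsLocalRing.maximalIdeal.isMaximal C
  have hPS : P.comap (Algebra.TensorProduct.includeRight : S →ₐ[A] V ⊗[A] S).toRingHom =
      x.comap (Algebra.TensorProduct.includeRight : S →ₐ[A] C ⊗[A] S).toRingHom := by
    rw [← hPx, Ideal.comap_comap]
    congr 1
    ext s
    simp [RingHom.algebraMap_toAlgebra, θ]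
  obtain ⟨s, hs, hsw⟩ := H P hP hPV hPS g hg w hw
  exact hs (hJP hsw)

end

end Groth.Agent.FlatDvrVC5
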