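import Mathlib
import Groth.Agent.FlatDvrVC5.Transfer
import Groth.Agent.FlatDvrVC5.Family
import Groth.Agent.FlatNil5.Family
import Groth.Agent.FormalFib6.Cplt

/-!
# The valuative criterion of flatness over a reduced Noetherian local ring
-/

set_option autoImplicit false
set_option linter.style.haveILetI false

universe u

open TensorProduct IsLocalRing

namespace Groth.Agent.FlatDvrVC5

attribute [local instance] Algebra.TensorProduct.rightAlgebra

set_option maxHeartbeats 1000000
set_option synthInstance.maxHeartbeats 100000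

theorem injective_rTensor_congr {C : Type u} [CommRing C] {Q Q' : Type u} [AddCommMonoid Q] [Module C Q]
    [AddCommMonoid Q'] [Module C Q'] (e : Q' ≃ₗ[C] Q) {N N' : Type u} [AddCommGroup N] [Module C N] [AddCommGroup N']
    [Module C N'] (g : N →ₗ[C] N') (h : Function.Injective (g.rTensor Q')) : Function.Injective (g.rTensor Q) := by
  have hc : ∀ z, g.rTensor Q (e.lTensor N z) = e.lTensor N' (g.rTensor _ z) := fun z => by
    show (g.rTensor Q ∘ₗ (e : _ →ₗ[C] Q).lTensor N) z = ((e : _ →ₗ[C] Q).lTensor N' ∘ₗ g.rTensor _) z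
    rw [LinearMap.rTensor_comp_lTensor, LinearMap.lTensor_comp_rTensor]
  intro x y hxy
  obtain ⟨x, rfl⟩ := (e.lTensor N).surjective x
  obtain ⟨y, rfl⟩ := (e.lTensor N).surjective y
  rw [hc, hc] at hxy
  exact congrArg _ (h ((e.lTensor N').injective hxy))

theorem injective_rTensor_of_lTensor {C T T' Y : Type u} [CommRing C] [CommRing T] [CommRing T'] [Algebra C T]
    [Algebra T T'] [Algebra C T'] [IsScalarTower C T T'] [AddCommGroup Y] [Module T Y] [Module C Y]
    [IsScalarTower C T Y] {N N' : Type u} [AddCommGroup N] [Module C N] [AddCommGroup N'] [Module C N']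
    (g : N →ₗ[C] N') (h : Function.Injective ((AlgebraTensorModule.lTensor T Y g).lTensor T')) :
    Function.Injective (g.rTensor (T' ⊗[T] Y)) := by
  let e := fun (P : Type u) [AddCommGroup P] [Module C P] =>
    (TensorProduct.comm C P (T' ⊗[T] Y)).trans ((AlgebraTensorModule.assoc C T T T' Y P).restrictScalars C)
  have h3 : ∀ z, (AlgebraTensorModule.lTensor T Y g).lTensor T' (e N z) = e N' (g.rTensor (T' ⊗[T] Y) z) := by
    intro z
    induction z using TensorProduct.induction_on with
    | zero => simp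
    | tmul n x =>
      induction x using TensorProduct.induction_on with
      | zero => simp
      | tmul a b => simp [e]
      | add x y hx hy => simp only [tmul_add, map_add, hx, hy]
    | add x y hx hy => simp only [map_add, hx, hy]
  intro x y hxy
  exact (e N).injective (h (by rw [h3, h3, hxy]))

theorem injective_rTensor_localization {C T T' Y : Type u} [CommRing C] [CommRing T] [CommRing T'] [Algebra C T]
    [Algebra T T'] [Algebra C T'] [IsScalarTower C T T'] (q : Ideal T) [q.IsPrime] [IsLocalization.AtPrime T' q]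
    [AddCommGroup Y] [Module T Y] [Module C Y]
    [IsScalarTower C T Y] {N N' : Type u} [AddCommGroup N] [Module C N] [AddCommGroup N'] [Module C N']
    (g : N →ₗ[C] N') (h : ∀ z : Y ⊗[C] N, g.lTensor Y z = 0 → ∃ t ∉ q, t • z = 0) :
    Function.Injective (g.rTensor (T' ⊗[T] Y)) :=
  injective_rTensor_of_lTensor g
    (injective_lTensor_of_ker_killed q T' (AlgebraTensorModule.lTensor T Y g) h)

theorem keepsInjective_mono {C : Type u} [CommRing C] {I J : Ideal C} (hIJ : I ≤ J) {Q : Type u} [AddCommGroup Q]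
    [Module C Q] (h : LocalCrit.KeepsInjective I Q) : LocalCrit.KeepsInjective J Q :=
  fun _ _ _ _ _ _ g hN hN' hg => h g (fun {y} a => @hN y ⟨a.1, hIJ a.2⟩) (fun {y} a => @hN' y ⟨a.1, hIJ a.2⟩) hg

section

variable {A S : Type u} [CommRing A] [CommRing S] [IsLocalRing S] [Algebra A S]
variable (M : Type u) [AddCommGroup M] [Module S M] [Module A M] [IsScalarTower A S M]

/-- The hypothesis of the valuative criterion. -/
def DvrFlat (A : Type u) [CommRing A] [IsLocalRing A] {S : Type u} [CommRing S] [IsLocalRing S] [Algebra A S]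
    (M : Type u) [AddCommGroup M] [Module S M] [Module A M] [IsScalarTower A S M] : Prop :=
  ∀ (V : Type u) [CommRing V] [IsDomain V] [IsDiscreteValuationRing V] [Algebra A V],
    IsLocalHom (algebraMap A V) → ∀ P : Ideal (V ⊗[A] S), P.IsPrime →
      P.comap (Algebra.TensorProduct.includeLeftRingHom) = maximalIdeal V →
      P.comap (Algebra.TensorProduct.includeRight : S →ₐ[A] V ⊗[A] S).toRingHom = maximalIdeal S →
      FlatAway V P ((V ⊗[A] S) ⊗[S] M)

/-- Flatness after base change to a quotient of a finite extension. -/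
theorem flat_quot_of_dvr [IsLocalRing A] (H : DvrFlat A (S := S) M) {C : Type u} [CommRing C] [IsLocalRing C] [Algebra A C]
    (x : Ideal (C ⊗[A] S)) [x.IsPrime]
    (hxC : x.comap (Algebra.TensorProduct.includeLeftRingHom) = maximalIdeal C)
    (hxS : x.comap (Algebra.TensorProduct.includeRight : S →ₐ[A] C ⊗[A] S).toRingHom = maximalIdeal S)
    (V : Type u) [CommRing V] [IsDomain V] [IsDiscreteValuationRing V] [Algebra C V] [Algebra A V]
    [IsScalarTower A C V] [Algebra.IsIntegral C V] (hV : IsLocalHom (algebraMap A V)) (I : Ideal V)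
    (S' : Type u) [CommRing S'] [Algebra (C ⊗[A] S) S'] [IsLocalization.AtPrime S' x] [Algebra C S'] [Algebra S S']
    [IsScalarTower C (C ⊗[A] S) S'] [IsScalarTower S (C ⊗[A] S) S'] :
    Module.Flat (V ⧸ I) ((V ⧸ I) ⊗[C] (S' ⊗[S] M)) := by
  rw [Module.Flat.iff_rTensor_preserves_injective_linearMap]
  intro N N' _ _ _ _ g hg
  letI : Module V N := Module.compHom N (algebraMap V (V ⧸ I))
  letI : Module V N' := Module.compHom N' (algebraMap V (V ⧸ I))
  letI : Module C N := Module.compHom N (algebraMap C (V ⧸ I))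
  letI : Module C N' := Module.compHom N' (algebraMap C (V ⧸ I))
  letI : Module A N := Module.compHom N (algebraMap A (V ⧸ I))
  letI : Module A N' := Module.compHom N' (algebraMap A (V ⧸ I))
  haveI : IsScalarTower V (V ⧸ I) N := IsScalarTower.of_algebraMap_smul fun _ _ => rfl
  haveI : IsScalarTower V (V ⧸ I) N' := IsScalarTower.of_algebraMap_smul fun _ _ => rfl
  haveI : IsScalarTower C (V ⧸ I) N := IsScalarTower.of_algebraMap_smul fun _ _ => rfl
  haveI : IsScalarTower C (V ⧸ I) N' := IsScalarTower.of_algebraMap_smul fun _ _ => rfl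
  haveI : IsScalarTower A (V ⧸ I) N := IsScalarTower.of_algebraMap_smul fun _ _ => rfl
  haveI : IsScalarTower A (V ⧸ I) N' := IsScalarTower.of_algebraMap_smul fun _ _ => rfl
  haveI : IsScalarTower C V N := IsScalarTower.to₁₂₄ C V (V ⧸ I) N
  haveI : IsScalarTower C V N' := IsScalarTower.to₁₂₄ C V (V ⧸ I) N'
  haveI : IsScalarTower A C N := IsScalarTower.to₁₂₄ A C (V ⧸ I) N
  haveI : IsScalarTower A C N' := IsScalarTower.to₁₂₄ A C (V ⧸ I) N'
  haveI : IsScalarTower A V N := IsScalarTower.to₁₂₄ A V (V ⧸ I) N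
  haveI : IsScalarTower A V N' := IsScalarTower.to₁₂₄ A V (V ⧸ I) N'
  let Y := (C ⊗[A] S) ⊗[S] M
  let gV : N →ₗ[V] N' := g.restrictScalars V
  have hf : ∀ z : Y ⊗[C] N, (gV.restrictScalars C).lTensor Y z = 0 → ∃ t ∉ x, t • z = 0 := fun z hz =>
    exists_smul_eq_zero M x hxC (fun P hP hPV hPS => H V hV P hP hPV (hPS.trans hxS)) gV hg z hz
  have h1 := injective_rTensor_localization (T' := S') x (gV.restrictScalars C) hf
  have h2 := injective_rTensor_congr (Q' := S' ⊗[C ⊗[A] S] Y)
    ((AlgebraTensorModule.cancelBaseChange S (C ⊗[A] S) (S') (S') M).restrictScalars C)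
    (gV.restrictScalars C) h1
  let e := fun (P : Type u) [AddCommGroup P] [Module C P] [Module (V ⧸ I) P] [IsScalarTower C (V ⧸ I) P] =>
    (AlgebraTensorModule.cancelBaseChange C (V ⧸ I) (V ⧸ I) P (S' ⊗[S] M)).restrictScalars C
  have h3 : ∀ z, (gV.restrictScalars C).rTensor _ (e N z) = e N' (g.rTensor _ z) := by
    intro z
    induction z using TensorProduct.induction_on with
    | zero => simp
    | tmul p y =>
      induction y using TensorProduct.induction_on with
      | zero => simp
      | tmul c m => simp [e, gV]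
      | add a b ha hb => simp only [tmul_add, map_add, ha, hb]
    | add a b ha hb => simp only [map_add, ha, hb]
  intro a b hab
  exact (e N).injective (h2 (by rw [h3, h3, hab]))

/-- Flatness over a reduced complete local ring from flatness over finite discrete valuation rings. -/
theorem flat_of_dvr_complete {C R S' : Type u} [CommRing C] [IsLocalRing C] [CommRing R] [IsLocalRing R] [IsNoetherianRing R]
    [_root_.IsReduced R] [IsAdicComplete (maximalIdeal R) R] [Algebra C R] (hsurj : Function.Surjective (algebraMap C R))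
    [CommRing S'] [IsLocalRing S'] [IsNoetherianRing S'] [Algebra C S'] [IsLocalHom (algebraMap C S')]
    (Q : Type u) [AddCommGroup Q] [Module S' Q] [Module C Q] [IsScalarTower C S' Q] [Module.Finite S' Q]
    (hQ : ∀ (V : Type u) [CommRing V] [IsDomain V] [IsDiscreteValuationRing V] [Algebra C V] [Algebra.IsIntegral C V],
      IsLocalHom (algebraMap C V) → ∀ I : Ideal V, Module.Flat (V ⧸ I) ((V ⧸ I) ⊗[C] Q)) :
    Module.Flat R (R ⊗[C] Q) := by
  classical
  by_cases hR : IsField R
  · letI : Field R := hR.toField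
    infer_instance
  let B := R ⊗[C] S'
  have hBs : Function.Surjective (algebraMap S' (R ⊗[C] S')) := by
    intro b
    induction b using TensorProduct.induction_on with
    | zero => exact ⟨0, map_zero _⟩
    | tmul r s =>
      obtain ⟨c, rfl⟩ := hsurj r
      refine ⟨c • s, ?_⟩
      show (1 : R) ⊗ₜ[C] (c • s) = _
      rw [tmul_smul, smul_tmul', Algebra.smul_def, mul_one]
    | add a b ha hb =>
      obtain ⟨a, rfl⟩ := ha
      obtain ⟨b, rfl⟩ := hb
      exact ⟨a + b, map_add _ _ _⟩
  haveI : IsNoetherianRing B := isNoetherianRing_of_surjective S' B _ hBs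
  let eN : B ⊗[S'] Q ≃ₗ[R] R ⊗[C] Q := Algebra.IsPushout.cancelBaseChange C R S' B Q
  suffices Module.Flat R (B ⊗[S'] Q) from Module.Flat.of_linearEquiv eN.symm
  refine LocalCrit.flat_of_forall_quotient_pow (B := B) (maximalIdeal R) ?_ fun n => ?_
  · rw [Ideal.map_le_iff_le_comap]
    intro r hr
    rw [Ideal.mem_comap, Ideal.jacobson, Submodule.mem_sInf]
    rintro b ⟨-, hb⟩
    haveI := hb
    haveI := Ideal.comap_isMaximal_of_surjective (algebraMap S' B) hBs (K := b)
    obtain ⟨c, rfl⟩ := hsurj r
    have hc : algebraMap C S' c ∈ Ideal.comap (algebraMap S' B) b := by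
      rw [IsLocalRing.eq_maximalIdeal (inferInstance : (Ideal.comap (algebraMap S' B) b).IsMaximal)]
      exact map_nonunit (algebraMap C S') c fun h => hr (h.map _)
    rw [Ideal.mem_comap] at hc
    have he : algebraMap R B (algebraMap C R c) = algebraMap S' B (algebraMap C S' c) := by
      show (algebraMap C R c) ⊗ₜ[C] (1 : S') = (1 : R) ⊗ₜ[C] algebraMap C S' c
      rw [Algebra.algebraMap_eq_smul_one c, Algebra.algebraMap_eq_smul_one c, smul_tmul]
    rw [he]; exact hc
  obtain ⟨k, V, _, _, _, φ, hφ, hK⟩ := exists_finite_dvr_family R hR (n + 1)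
  let K : Ideal R := ⨅ i, RingHom.ker (φ i)
  haveI : Nontrivial (R ⧸ K) := Ideal.Quotient.nontrivial_iff.2 fun h => (maximalIdeal.isMaximal R).ne_top
    (top_le_iff.1 (h ▸ hK.trans (Ideal.pow_le_self (Nat.succ_ne_zero n))))
  haveI : IsLocalRing (R ⧸ K) := IsLocalRing.of_surjective' _ Ideal.Quotient.mk_surjective
  haveI : IsAdicComplete (maximalIdeal (R ⧸ K)) (R ⧸ K) := CILib.isAdicComplete_quotient _
  let φ' : ∀ i, R ⧸ K →+* V i := fun i => Ideal.Quotient.lift K (φ i) (fun a ha => (Submodule.mem_iInf _).1 ha i)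
  let J : ℕ → Ideal (R ⧸ K) := fun s => ⨅ i, (maximalIdeal (V i) ^ s).comap (φ' i)
  obtain ⟨s, hs⟩ := S17754.result (R ⧸ K) J
    (fun a b hab => iInf_mono fun i => Ideal.comap_mono (Ideal.pow_le_pow_right hab))
    (eq_bot_iff.2 fun y hy => by
      obtain ⟨r, rfl⟩ := Ideal.Quotient.mk_surjective y
      rw [Submodule.mem_bot, Ideal.Quotient.eq_zero_iff_mem, Submodule.mem_iInf]
      intro i
      have hi : φ i r ∈ ⨅ t, maximalIdeal (V i) ^ t := (Submodule.mem_iInf _).2 fun t =>
        (Submodule.mem_iInf _).1 ((Submodule.mem_iInf _).1 hy t) i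
      rwa [Ideal.iInf_pow_eq_bot_of_isLocalRing _ (maximalIdeal.isMaximal (V i)).ne_top, Ideal.mem_bot] at hi)
    (n + 1)
  let I : Ideal R := ⨅ i, (maximalIdeal (V i) ^ s).comap (φ i)
  have hI : I ≤ maximalIdeal R ^ (n + 1) := by
    intro r hr
    have h1 : Ideal.Quotient.mk K r ∈ maximalIdeal (R ⧸ K) ^ (n + 1) :=
      hs ((Submodule.mem_iInf _).2 fun i => (Submodule.mem_iInf _).1 hr i)
    rw [← map_maximalIdeal_of_surjective _ Ideal.Quotient.mk_surjective, ← Ideal.map_pow,
      ← Ideal.mem_comap, Ideal.comap_map_of_surjective _ Ideal.Quotient.mk_surjective,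
      ← RingHom.ker_eq_comap_bot, Ideal.mk_ker, sup_eq_left.2 hK] at h1
    exact h1
  refine keepsInjective_mono (hI.trans (Ideal.pow_le_pow_right n.le_succ)) ?_
  haveI : Module.Flat (R ⧸ I) ((R ⧸ I) ⊗[R] (B ⊗[S'] Q)) := by
    letI : ∀ i, Algebra R (V i) := fun i => (φ i).toAlgebra
    letI : ∀ i, Algebra C (V i) := fun i => ((φ i).comp (algebraMap C R)).toAlgebra
    haveI : ∀ i, IsScalarTower C R (V i) := fun i => IsScalarTower.of_algebraMap_eq fun _ => rfl
    letI : ∀ i, Algebra (R ⧸ I) (V i ⧸ maximalIdeal (V i) ^ s) := fun i =>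
      (Ideal.quotientMap (maximalIdeal (V i) ^ s) (φ i) (iInf_le _ i)).toAlgebra
    haveI : ∀ i, IsScalarTower R (R ⧸ I) (V i ⧸ maximalIdeal (V i) ^ s) := fun i =>
      IsScalarTower.of_algebraMap_eq fun _ => rfl
    haveI : (maximalIdeal R).map (Ideal.Quotient.mk I) |>.IsMaximal := by
      refine Ideal.IsMaximal.map_of_surjective_of_ker_le Ideal.Quotient.mk_surjective ?_
      rw [Ideal.mk_ker]
      exact hI.trans (Ideal.pow_le_self (Nat.succ_ne_zero n))
    refine FlatNil5.flat_of_family (A' := fun i => V i ⧸ maximalIdeal (V i) ^ s) (fun a ha => ?_)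
      ((maximalIdeal R).map (Ideal.Quotient.mk I)) ⟨s, ?_⟩ _ fun i => ?_
    · obtain ⟨r, rfl⟩ := Ideal.Quotient.mk_surjective a
      exact Ideal.Quotient.eq_zero_iff_mem.2 ((Submodule.mem_iInf _).2 fun i =>
        (Ideal.Quotient.eq_zero_iff_mem (I := maximalIdeal (V i) ^ s)).1 (ha i))
    · rw [← Ideal.map_pow, Ideal.zero_eq_bot, Ideal.map_eq_bot_iff_le_ker, Ideal.mk_ker]
      refine le_iInf fun i => Ideal.map_le_iff_le_comap.1 ?_
      rw [Ideal.map_pow]
      haveI := (hφ i).1
      exact Ideal.pow_right_mono (Ideal.map_le_iff_le_comap.2 fun r hr => Ideal.mem_comap.2 (map_nonunit (φ i) r hr)) s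
    · haveI := (hφ i).1
      haveI : Algebra.IsIntegral C (V i) := ⟨((hφ i).2.comp (RingHom.Finite.of_surjective _ hsurj)).to_isIntegral⟩
      haveI : IsLocalHom (algebraMap C R) := IsLocalHom.of_surjective _ hsurj
      have hloc : IsLocalHom (algebraMap C (V i)) := RingHom.isLocalHom_comp _ _
      haveI := hQ (V i) hloc (maximalIdeal (V i) ^ s)
      exact Module.Flat.of_linearEquiv
        ((AlgebraTensorModule.cancelBaseChange R (R ⧸ I) (V i ⧸ maximalIdeal (V i) ^ s)
            (V i ⧸ maximalIdeal (V i) ^ s) (B ⊗[S'] Q)).trans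
          ((AlgebraTensorModule.congr (LinearEquiv.refl (V i ⧸ maximalIdeal (V i) ^ s) _) eN).trans
            (AlgebraTensorModule.cancelBaseChange C R (V i ⧸ maximalIdeal (V i) ^ s)
              (V i ⧸ maximalIdeal (V i) ^ s) Q)))
  exact LocalCrit.keepsInjective_of_flat _ _

theorem flat_of_dvr_aux [IsNoetherianRing A] [IsLocalRing A] [_root_.IsReduced A]
    [Module.Finite S M] (H : DvrFlat A (S := S) M) {C : Type u} [CommRing C] [IsLocalRing C] [IsNoetherianRing C]
    [IsAdicComplete (maximalIdeal C) C] [Algebra A C] [IsLocalHom (algebraMap A C)] [Module.Flat A C]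
    [Module.Flat S (C ⊗[A] S)] [IsNoetherianRing (C ⊗[A] S)]
    (x : Ideal (C ⊗[A] S)) [x.IsPrime]
    (hxC : x.comap (Algebra.TensorProduct.includeLeftRingHom) = maximalIdeal C)
    (hxS : x.comap (Algebra.TensorProduct.includeRight : S →ₐ[A] C ⊗[A] S).toRingHom = maximalIdeal S)
    (S' : Type u) [CommRing S'] [IsLocalRing S'] [Algebra (C ⊗[A] S) S'] [IsLocalization.AtPrime S' x] [Algebra C S']
    [Algebra S S'] [Algebra A S'] [IsScalarTower A C S'] [IsScalarTower A S S']
    [IsScalarTower C (C ⊗[A] S) S'] [IsScalarTower S (C ⊗[A] S) S'] : Module.Flat A M := by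
  let T := C ⊗[A] S
  haveI : Module.Flat T S' := IsLocalization.flat S' x.primeCompl
  haveI : Module.Flat S S' := Module.Flat.trans S T S'
  haveI : IsNoetherianRing S' := IsLocalization.isNoetherianRing x.primeCompl S' inferInstance
  have hbc : ∀ (X : Type u) [AddCommGroup X] [Module S X] [Module A X] [IsScalarTower A S X],
      Module.Flat A X → Module.Flat C (S' ⊗[S] X) := by
    intro X _ _ _ _ hX
    haveI : Module.Flat C (T ⊗[S] X) := flat_cancel C X
    haveI := flat_tensor_of_flat (C := C) (T := T) (T' := S') (Y := T ⊗[S] X)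
    exact Module.Flat.of_linearEquiv ((AlgebraTensorModule.cancelBaseChange S T S' S' X).restrictScalars C).symm
  let Q := S' ⊗[S] M
  haveI : IsLocalHom (algebraMap C S') := by
    refine ⟨fun c hc => ?_⟩
    by_contra h
    have h2 : c ∈ x.comap (Algebra.TensorProduct.includeLeftRingHom) := hxC.symm ▸ h
    rw [IsScalarTower.algebraMap_apply C T S', IsLocalization.AtPrime.isUnit_to_map_iff S' x] at hc
    exact hc h2
  haveI : Nontrivial (C ⧸ nilradical C) := Ideal.Quotient.nontrivial_iff.2 fun h => (maximalIdeal.isMaximal C).ne_top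
    (top_le_iff.1 (h ▸ nilradical_le_prime (maximalIdeal C)))
  haveI : IsLocalRing (C ⧸ nilradical C) := IsLocalRing.of_surjective' _ Ideal.Quotient.mk_surjective
  haveI : _root_.IsReduced (C ⧸ nilradical C) :=
    (Ideal.isRadical_iff_quotient_reduced _).1 (Ideal.radical_isRadical _)
  haveI : IsAdicComplete (maximalIdeal (C ⧸ nilradical C)) (C ⧸ nilradical C) := CILib.isAdicComplete_quotient _
  have hnilR : Module.Flat (C ⧸ nilradical C) ((C ⧸ nilradical C) ⊗[C] Q) :=
    flat_of_dvr_complete (C := C) (R := C ⧸ nilradical C) (S' := S') Ideal.Quotient.mk_surjective Q fun V _ _ _ _ _ hV I => by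
      letI : Algebra A V := ((algebraMap C V).comp (algebraMap A C)).toAlgebra
      haveI : IsScalarTower A C V := IsScalarTower.of_algebraMap_eq fun _ => rfl
      haveI := hV
      exact flat_quot_of_dvr M H x hxC hxS V (RingHom.isLocalHom_comp _ _) I S'
  have hfin := flatAway_of_flat_mod_nilradical (C := C) M S' hbc hnilR (maximalIdeal S')
  have he : (maximalIdeal S').comap (algebraMap S S') = maximalIdeal S := by
    rw [IsScalarTower.algebraMap_eq S T S', ← Ideal.comap_comap]
    exact (congrArg (Ideal.comap (algebraMap S T)) (IsLocalization.AtPrime.under_maximalIdeal S' x)).trans hxS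
  rw [he] at hfin
  rw [Module.Flat.iff_lTensor_preserves_injective_linearMap]
  intro N N' _ _ _ _ g hg
  rw [← LinearMap.ker_eq_bot, eq_bot_iff]
  intro z hz
  obtain ⟨t, ht, htz⟩ := hfin g hg z hz
  rw [Submodule.mem_bot]
  exact ((IsLocalRing.notMem_maximalIdeal.1 ht).smul_eq_zero).1 htz


/-- The valuative criterion of flatness, local form. -/
theorem flat_of_dvr [IsNoetherianRing A] [IsLocalRing A] [_root_.IsReduced A] [IsLocalHom (algebraMap A S)]
    [Algebra.EssFiniteType A S] [Module.Finite S M] (H : DvrFlat A (S := S) M) : Module.Flat A M := by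
  classical
  let C := AdicCompletion (maximalIdeal A) A
  haveI : IsNoetherianRing C := FormalFib6.isNoetherianRing_adicCompletion A _
  haveI : IsLocalHom (algebraMap A C) := AdicCompletion.algebraMap_isLocalHom_of_fg (IsNoetherian.noetherian _)
  haveI := CILib.isAdicComplete_adicCompletion A
  let T := C ⊗[A] S
  haveI : Module.Flat S T :=
    Module.Flat.isBaseChange (R := A) (S := S) (M := C) (N := T)
      (Algebra.IsPushout.symm (inferInstance : Algebra.IsPushout A C S T)).out
  haveI : IsNoetherianRing T := Algebra.EssFiniteType.isNoetherianRing C T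
  -- a point of `T` over both closed points
  let χC : C →ₐ[A] ResidueField S :=
    (Ideal.Quotient.liftₐ (maximalIdeal A) (Algebra.ofId A (ResidueField S)) (fun a ha => by
      rw [Algebra.ofId_apply, IsScalarTower.algebraMap_apply A S (ResidueField S)]
      exact (Ideal.Quotient.eq_zero_iff_mem (I := maximalIdeal S)).2 (map_nonunit (algebraMap A S) a ha))).comp
      (AdicCompletion.evalOneₐ (maximalIdeal A))
  let χ : T →ₐ[A] ResidueField S :=
    Algebra.TensorProduct.lift χC (IsScalarTower.toAlgHom A S (ResidueField S)) (fun _ _ => Commute.all _ _)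
  let x : Ideal T := RingHom.ker χ.toRingHom
  haveI : x.IsPrime := RingHom.ker_isPrime _
  have hxS : x.comap (Algebra.TensorProduct.includeRight : S →ₐ[A] T).toRingHom = maximalIdeal S := by
    ext s
    rw [Ideal.mem_comap, RingHom.mem_ker, ← IsLocalRing.residue_eq_zero_iff]
    show χ ((1 : C) ⊗ₜ[A] s) = 0 ↔ _
    rw [Algebra.TensorProduct.lift_tmul, map_one, one_mul]
    rfl
  have hxC : x.comap (Algebra.TensorProduct.includeLeftRingHom) = maximalIdeal C := by
    refine ((maximalIdeal.isMaximal C).eq_of_le (Ideal.IsPrime.comap _).ne_top ?_).symm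
    rw [show maximalIdeal C = _ from AdicCompletion.maximalIdeal_eq_map (R := A), Ideal.map_le_iff_le_comap]
    intro a ha
    show χ (algebraMap A C a ⊗ₜ[A] (1 : S)) = 0
    rw [Algebra.TensorProduct.lift_tmul, AlgHom.commutes, map_one, mul_one, IsScalarTower.algebraMap_apply A S (ResidueField S)]
    exact (IsLocalRing.residue_eq_zero_iff _).2 (map_nonunit (algebraMap A S) a ha)
  exact flat_of_dvr_aux M H x hxC hxS (Localization.AtPrime x)

end

end Groth.Agent.FlatDvrVC5
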