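import Mathlib
import Groth.Agent.FlatDvrVC5.Complete
import Groth.Agent.H23.RatExtend
import Groth.Agent.AssLib.FlatFibre
import Groth.Agent.FlatLocus.Basic

/-!
# The valuative criterion of flatness at a point of a scheme
-/

set_option autoImplicit false
set_option linter.style.haveILetI false

universe u

open CategoryTheory Limits AlgebraicGeometry TensorProduct IsLocalRing

namespace Groth.Agent.FlatDvrVC5

attribute [local instance] Algebra.TensorProduct.rightAlgebra

theorem isPullback_tensor {A S : CommRingCat.{u}} (V : Type u) [CommRing V] [Algebra A V] [Algebra A S]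
    (ψ : A ⟶ S) (hψ : algebraMap A S = ψ.hom) :
    IsPullback (Spec.map (CommRingCat.ofHom (Algebra.TensorProduct.includeLeftRingHom : V →+* V ⊗[A] S)))
      (Spec.map (CommRingCat.ofHom (Algebra.TensorProduct.includeRight : S →ₐ[A] V ⊗[A] S).toRingHom))
      (Spec.map (CommRingCat.ofHom (algebraMap A V))) (Spec.map ψ) := by
  have h := isPullback_SpecMap_of_isPushout _ _ _ _ (CommRingCat.isPushout_tensorProduct A V S)
  have e : CommRingCat.ofHom (algebraMap A S) = ψ := CommRingCat.hom_ext hψ
  rw [← e]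
  exact h

theorem isPullback_comp_mono {C : Type*} [Category C] {P A B W Z : C} {a : P ⟶ A} {b : P ⟶ B} {g : A ⟶ W} {h : B ⟶ W}
    (i : W ⟶ Z) [Mono i] (H : IsPullback a b g h) : IsPullback a b (g ≫ i) (h ≫ i) :=
  IsPullback.of_isLimit (PullbackCone.isLimitOfCompMono g h i _ H.isLimit)

theorem flat_stalkMap_of_comp {Z W B : Scheme.{u}} (n : Z ⟶ W) [Flat n] [IsPreimmersion n] (s : W ⟶ B) (m : Z ⟶ B)
    (hm : n ≫ s = m) (p : Z) (h : (s.stalkMap (n.base p)).hom.Flat) : (m.stalkMap p).hom.Flat := by
  subst hm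
  haveI : IsIso (n.stalkMap p) := (ConcreteCategory.isIso_iff_bijective _).2 (AssLib.bijective_stalkMap n p)
  rw [Scheme.Hom.stalkMap_comp]
  exact (FlatLocus.flat_comp_isIso _ _).2 h

theorem flat_localizedModule {V T : Type u} [CommRing V] [CommRing T] [Algebra V T] (P : PrimeSpectrum T)
    (h : ((Spec.map (CommRingCat.ofHom (algebraMap V T))).stalkMap P).hom.Flat) :
    Module.Flat V (LocalizedModule P.asIdeal.primeCompl T) := by
  have h2 := (FlatLocus.stalkMap_flat_SpecMap (CommRingCat.ofHom (algebraMap V T)) P).1 h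
  have e : (CommRingCat.ofHom (algebraMap V T)).hom.toAlgebra = ‹Algebra V T› := Algebra.algebra_ext _ _ fun _ => rfl
  rw [e] at h2
  exact h2

variable {X Y : Scheme.{u}} (f : X ⟶ Y) (x : X)

/-- The base change of `Spec O_x` maps to the base change of `X`. -/
theorem exists_lift [Algebra (Y.presheaf.stalk (f.base x)) (X.presheaf.stalk x)]
    (hS : algebraMap (Y.presheaf.stalk (f.base x)) (X.presheaf.stalk x) = (f.stalkMap x).hom)
    (V : Type u) [CommRing V] [Algebra (Y.presheaf.stalk (f.base x)) V] :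
    ∃ n : Spec (CommRingCat.of (V ⊗[Y.presheaf.stalk (f.base x)] X.presheaf.stalk x)) ⟶
        pullback f (Spec.map (CommRingCat.ofHom (algebraMap (Y.presheaf.stalk (f.base x)) V)) ≫
          Y.fromSpecStalk (f.base x)),
      Flat n ∧ IsPreimmersion n ∧
      n ≫ pullback.fst f _ = Spec.map (CommRingCat.ofHom
        (Algebra.TensorProduct.includeRight : X.presheaf.stalk x →ₐ[Y.presheaf.stalk (f.base x)] _).toRingHom) ≫
          X.fromSpecStalk x ∧
      n ≫ pullback.snd f _ = Spec.map (CommRingCat.ofHom (Algebra.TensorProduct.includeLeftRingHom : V →+* _)) ∧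
      ∀ x', (pullback.fst f _).base x' ∈ Set.range (X.fromSpecStalk x).base → ∃ p, n.base p = x' := by
  let A := Y.presheaf.stalk (f.base x)
  let S := X.presheaf.stalk x
  let j := X.fromSpecStalk x
  let e := Y.fromSpecStalk (f.base x)
  let φV : A ⟶ CommRingCat.of V := CommRingCat.ofHom (algebraMap A V)
  let g := Spec.map φV ≫ e
  let iL : CommRingCat.of V ⟶ CommRingCat.of (V ⊗[A] S) :=
    CommRingCat.ofHom Algebra.TensorProduct.includeLeftRingHom
  let iR : S ⟶ CommRingCat.of (V ⊗[A] S) :=
    CommRingCat.ofHom (Algebra.TensorProduct.includeRight : S →ₐ[A] V ⊗[A] S).toRingHom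
  have h0 : IsPullback (Spec.map iL) (Spec.map iR) (Spec.map φV) (Spec.map (f.stalkMap x)) :=
    isPullback_tensor V (f.stalkMap x) hS
  haveI : Mono e := inferInstance
  have hje : j ≫ f = Spec.map (f.stalkMap x) ≫ e := (Scheme.SpecMap_stalkMap_fromSpecStalk f).symm
  have h1 : IsPullback (Spec.map iR) (Spec.map iL) (j ≫ f) g := by
    rw [hje]
    exact isPullback_comp_mono e h0.flip
  have hn := IsPullback.of_bot' h1 (IsPullback.of_hasPullback f g)
  let n := (IsPullback.of_hasPullback f g).lift (Spec.map iR ≫ j) (Spec.map iL) (by rw [Category.assoc, h1.w])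
  have hns : n ≫ pullback.snd f g = Spec.map iL := (IsPullback.of_hasPullback f g).lift_snd _ _ _
  have hnf : n ≫ pullback.fst f g = Spec.map iR ≫ j := (IsPullback.of_hasPullback f g).lift_fst _ _ _
  haveI : Flat j := H23.RatExtend.flat_fromSpecStalk X x
  have hnF : Flat n := MorphismProperty.of_isPullback hn (show Flat j from inferInstance)
  have hnP : IsPreimmersion n := MorphismProperty.of_isPullback hn (show IsPreimmersion j from inferInstance)
  refine ⟨n, hnF, hnP, hnf, hns, fun x' hx' => ?_⟩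
  obtain ⟨c, hc⟩ := hx'
  obtain ⟨w, -, hw⟩ := Scheme.Pullback.exists_preimage_pullback (f := j) (g := pullback.fst f g) c x' hc
  refine ⟨hn.isoPullback.inv.base w, ?_⟩
  have h5 : hn.isoPullback.inv ≫ n = pullback.snd j (pullback.fst f g) := hn.isoPullback_inv_snd
  exact ((Scheme.Hom.comp_apply _ _ w).symm.trans (congrArg (fun m : _ ⟶ pullback f g => m.base w) h5)).trans hw

/-- A prime of `V ⊗ O_x` gives a point of the base change with the same local flatness. -/
theorem exists_point [Algebra (Y.presheaf.stalk (f.base x)) (X.presheaf.stalk x)]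
    (hS : algebraMap (Y.presheaf.stalk (f.base x)) (X.presheaf.stalk x) = (f.stalkMap x).hom)
    (V : Type u) [CommRing V] [Algebra (Y.presheaf.stalk (f.base x)) V]
    (P : PrimeSpectrum (V ⊗[Y.presheaf.stalk (f.base x)] X.presheaf.stalk x)) :
    ∃ x' : ↥(pullback f (Spec.map (CommRingCat.ofHom (algebraMap (Y.presheaf.stalk (f.base x)) V)) ≫
        Y.fromSpecStalk (f.base x))),
      (pullback.fst f _).base x' = (X.fromSpecStalk x).base
          (P.comap (Algebra.TensorProduct.includeRight : X.presheaf.stalk x →ₐ[Y.presheaf.stalk (f.base x)] _).toRingHom) ∧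
      (pullback.snd f _).base x' = P.comap (Algebra.TensorProduct.includeLeftRingHom : V →+* _) ∧
      (((pullback.snd f (Spec.map (CommRingCat.ofHom (algebraMap (Y.presheaf.stalk (f.base x)) V)) ≫
        Y.fromSpecStalk (f.base x))).stalkMap x').hom.Flat →
        Module.Flat V (LocalizedModule P.asIdeal.primeCompl (V ⊗[Y.presheaf.stalk (f.base x)] X.presheaf.stalk x))) := by
  obtain ⟨n, hn1, hn2, hnf, hns, -⟩ := exists_lift f x hS V
  haveI := hn1
  haveI := hn2
  refine ⟨n.base P, ?_, ?_, fun h => ?_⟩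
  · exact (Scheme.Hom.comp_apply n _ P).symm.trans (congrArg (fun m : _ ⟶ X => m.base P) hnf)
  · exact (Scheme.Hom.comp_apply n _ P).symm.trans (congrArg (fun m : _ ⟶ Spec (CommRingCat.of V) => m.base P) hns)
  · exact flat_localizedModule P (flat_stalkMap_of_comp n _ _ hns P h)

/-- The valuative criterion of flatness at a point. -/
theorem flat_stalkMap_of_dvr [LocallyOfFiniteType f] [IsNoetherianRing (Y.presheaf.stalk (f.base x))]
    [_root_.IsReduced (Y.presheaf.stalk (f.base x))]
    (h : ∀ (A' : Type u) [CommRing A'] [IsDomain A'] [IsDiscreteValuationRing A']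
        (φ : (Y.presheaf.stalk (f.base x) : Type u) →+* A') [IsLocalHom φ],
        ∀ x' : ↥(pullback f (Spec.map (CommRingCat.ofHom φ) ≫ Y.fromSpecStalk (f.base x))),
          (pullback.fst f _).base x' = x →
          (pullback.snd f _).base x' = IsLocalRing.closedPoint A' →
          ((pullback.snd f (Spec.map (CommRingCat.ofHom φ) ≫ Y.fromSpecStalk (f.base x))).stalkMap x').hom.Flat) :
    (f.stalkMap x).hom.Flat := by
  letI : Algebra (Y.presheaf.stalk (f.base x)) (X.presheaf.stalk x) := (f.stalkMap x).hom.toAlgebra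
  haveI : IsLocalHom (algebraMap (Y.presheaf.stalk (f.base x)) (X.presheaf.stalk x)) :=
    inferInstanceAs (IsLocalHom (f.stalkMap x).hom)
  haveI : Algebra.EssFiniteType (Y.presheaf.stalk (f.base x)) (X.presheaf.stalk x) :=
    LocallyOfFiniteType.stalkMap f x
  haveI : IsNoetherianRing (X.presheaf.stalk x) :=
    Algebra.EssFiniteType.isNoetherianRing (Y.presheaf.stalk (f.base x)) _
  show Module.Flat (Y.presheaf.stalk (f.base x)) (X.presheaf.stalk x)
  refine flat_of_dvr (A := Y.presheaf.stalk (f.base x)) (S := X.presheaf.stalk x) (X.presheaf.stalk x) ?_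
  intro V _ _ _ _ hV P hP hPV hPS
  haveI := hV
  haveI := hP
  obtain ⟨x', hfst, hsnd, hflat⟩ := exists_point f x rfl V ⟨P, hP⟩
  have h1 := hflat (h V (algebraMap _ V) x'
    (hfst.trans ((congrArg (X.fromSpecStalk x).base (PrimeSpectrum.ext hPS)).trans Scheme.fromSpecStalk_closedPoint))
    (hsnd.trans (PrimeSpectrum.ext hPV)))
  let T := V ⊗[Y.presheaf.stalk (f.base x)] X.presheaf.stalk x
  let r : T ⊗[X.presheaf.stalk x] X.presheaf.stalk x ≃ₗ[T] T := AlgebraTensorModule.rid _ T T
  rw [flatAway_iff]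
  let q : LocalizedModule P.primeCompl (T ⊗[X.presheaf.stalk x] X.presheaf.stalk x) ≃ₗ[T]
      LocalizedModule P.primeCompl T :=
    IsLocalizedModule.linearEquiv P.primeCompl (LocalizedModule.mkLinearMap P.primeCompl _)
      ((LocalizedModule.mkLinearMap P.primeCompl T).comp r.toLinearMap)
  exact Module.Flat.of_linearEquiv (q.restrictScalars V)

theorem flat_of_flat_comp {Z W B : Scheme.{u}} (n : Z ⟶ W) [Flat n] [IsPreimmersion n] (s : W ⟶ B) (m : Z ⟶ B)
    (hm : n ≫ s = m) [Flat m] (p : Z) : (s.stalkMap (n.base p)).hom.Flat := by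
  subst hm
  have h := Flat.stalkMap (f := n ≫ s) p
  haveI : IsIso (n.stalkMap p) := (ConcreteCategory.isIso_iff_bijective _).2 (AssLib.bijective_stalkMap n p)
  rw [Scheme.Hom.stalkMap_comp] at h
  exact (FlatLocus.flat_comp_isIso _ _).1 h

/-- Base change of flatness at a point. -/
theorem flat_stalkMap_pullback (h : (f.stalkMap x).hom.Flat) (V : Type u) [CommRing V]
    (φ : (Y.presheaf.stalk (f.base x) : Type u) →+* V)
    (x' : ↥(pullback f (Spec.map (CommRingCat.ofHom φ) ≫ Y.fromSpecStalk (f.base x))))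
    (hx' : (pullback.fst f _).base x' = x) :
    ((pullback.snd f (Spec.map (CommRingCat.ofHom φ) ≫ Y.fromSpecStalk (f.base x))).stalkMap x').hom.Flat := by
  letI : Algebra (Y.presheaf.stalk (f.base x)) (X.presheaf.stalk x) := (f.stalkMap x).hom.toAlgebra
  letI : Algebra (Y.presheaf.stalk (f.base x)) V := φ.toAlgebra
  haveI : Module.Flat (Y.presheaf.stalk (f.base x)) (X.presheaf.stalk x) := h
  obtain ⟨n, hn1, hn2, -, hns, hsurj⟩ := exists_lift f x rfl V
  haveI := hn1
  haveI := hn2
  obtain ⟨p, rfl⟩ := hsurj x' ⟨IsLocalRing.closedPoint _, X.fromSpecStalk_closedPoint.trans hx'.symm⟩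
  haveI : Flat (Spec.map (CommRingCat.ofHom
      (Algebra.TensorProduct.includeLeftRingHom : V →+* V ⊗[Y.presheaf.stalk (f.base x)] X.presheaf.stalk x))) := by
    rw [HasRingHomProperty.Spec_iff (P := @Flat)]
    exact RingHom.flat_algebraMap_iff.2 inferInstance
  exact flat_of_flat_comp n _ _ hns p

end Groth.Agent.FlatDvrVC5
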