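import Mathlib
import Groth.Agent.FlatDvrVC5.Complete

/-!
# The valuative criterion of flatness, affine form
-/

set_option autoImplicit false
set_option linter.style.haveILetI false

universe u

open TensorProduct IsLocalRing

namespace Groth.Agent.FlatDvrVC5

attribute [local instance] Algebra.TensorProduct.rightAlgebra

/-- Localization keeps injectivity of tensored maps. -/
theorem injective_rTensor_localized {A B : Type u} [CommRing A] [CommRing B] [Algebra A B] (Q : Ideal B) [Q.IsPrime]
    (M : Type u) [AddCommGroup M] [Module A M] [Module B M] [IsScalarTower A B M]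
    {N N' : Type u} [AddCommGroup N] [Module A N] [AddCommGroup N'] [Module A N'] (g : N →ₗ[A] N')
    (h : Function.Injective (g.rTensor M)) :
    Function.Injective (g.rTensor (LocalizedModule Q.primeCompl M)) := by
  let f := LocalizedModule.mkLinearMap Q.primeCompl M
  have h0 : ∀ z, g.lTensor M z = 0 → z = 0 := by
    intro z hz
    apply (TensorProduct.comm A M N).injective
    rw [map_zero]
    apply h
    have hc : ∀ z, g.rTensor M (TensorProduct.comm A M N z) = TensorProduct.comm A M N' (g.lTensor M z) := by
      intro z
      induction z using TensorProduct.induction_on with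
      | zero => simp
      | tmul a b => simp
      | add a b ha hb => simp only [map_add, ha, hb]
    rw [hc, hz, map_zero, map_zero]
  have hl : Function.Injective (g.lTensor (LocalizedModule Q.primeCompl M)) := by
    rw [← LinearMap.ker_eq_bot, eq_bot_iff]
    intro w hw
    rw [LinearMap.mem_ker] at hw
    obtain ⟨⟨z, s⟩, hz⟩ := IsLocalizedModule.surj Q.primeCompl (AlgebraTensorModule.rTensor A N f) w
    have hcomm : g.lTensor (LocalizedModule Q.primeCompl M) (AlgebraTensorModule.rTensor A N f z) =
        AlgebraTensorModule.rTensor A N' f (g.lTensor M z) := by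
      clear hz
      induction z using TensorProduct.induction_on with
      | zero => simp
      | tmul m n => simp
      | add x y hx hy => simp only [map_add, hx, hy]
    have hs : g.lTensor (LocalizedModule Q.primeCompl M) ((s : B) • w) = 0 :=
      ((AlgebraTensorModule.lTensor B (LocalizedModule Q.primeCompl M) g).map_smul (s : B) w).trans (by
        show (s : B) • g.lTensor (LocalizedModule Q.primeCompl M) w = 0
        rw [hw, smul_zero])
    rw [show ((s : B) • w) = AlgebraTensorModule.rTensor A N f z from hz, hcomm] at hs
    obtain ⟨⟨t, ht⟩, htz⟩ := (IsLocalizedModule.eq_zero_iff Q.primeCompl (AlgebraTensorModule.rTensor A N' f)).1 hs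
    have h3 : t • z = 0 := h0 _ (((AlgebraTensorModule.lTensor B M g).map_smul t z).trans htz)
    have h4 : AlgebraTensorModule.rTensor A N f z = 0 :=
      (IsLocalizedModule.eq_zero_iff Q.primeCompl _).2 ⟨⟨t, ht⟩, h3⟩
    rw [h4] at hz
    rw [Submodule.mem_bot]
    exact (IsLocalizedModule.smul_inj (AlgebraTensorModule.rTensor A N f) s w 0).1 (by rw [smul_zero]; exact hz)
  have hc : ∀ z, g.lTensor (LocalizedModule Q.primeCompl M) (TensorProduct.comm A N _ z) =
      TensorProduct.comm A N' _ (g.rTensor _ z) := by
    intro z
    induction z using TensorProduct.induction_on with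
    | zero => simp
    | tmul a b => simp
    | add a b ha hb => simp only [map_add, ha, hb]
  intro a b hab
  exact (TensorProduct.comm A N _).injective (hl (by rw [hc, hc, hab]))

/-- The valuative criterion of flatness, affine form. -/
theorem flat_of_dvr_affine (A : Type u) [CommRing A] [_root_.IsReduced A] [IsNoetherianRing A] (B : Type u) [CommRing B]
    [Algebra A B] [Algebra.FiniteType A B] (M : Type u) [AddCommGroup M] [Module A M] [Module B M]
    [IsScalarTower A B M] [Module.Finite B M]
    (h : ∀ (R : Type u) [CommRing R] [IsDomain R] [IsDiscreteValuationRing R] [Algebra A R],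
      Module.Flat R (R ⊗[A] M)) : Module.Flat A M := by
  refine Module.flat_of_isLocalized_maximal (R := A) B M (fun Q _ => LocalizedModule Q.primeCompl M)
    (fun Q _ => LocalizedModule.mkLinearMap Q.primeCompl M) fun Q _ => ?_
  let q := Q.comap (algebraMap A B)
  haveI : q.IsPrime := Ideal.IsPrime.comap _
  haveI : Q.LiesOver q := ⟨rfl⟩
  let Aq := Localization.AtPrime q
  let S := Localization.AtPrime Q
  let MQ := LocalizedModule Q.primeCompl M
  letI : Algebra Aq S := Localization.AtPrime.algebraOfLiesOver q Q
  letI : Module Aq MQ := Module.compHom MQ (algebraMap Aq S)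
  haveI : IsScalarTower Aq S MQ := IsScalarTower.of_algebraMap_smul fun _ _ => rfl
  haveI : IsScalarTower A Aq MQ := IsScalarTower.of_algebraMap_smul fun a y => by
    show algebraMap Aq S (algebraMap A Aq a) • y = a • y
    rw [← IsScalarTower.algebraMap_apply, IsScalarTower.algebraMap_apply A B S, algebraMap_smul, algebraMap_smul]
  haveI : Module.Finite S MQ := Module.Finite.of_isLocalizedModule Q.primeCompl (LocalizedModule.mkLinearMap Q.primeCompl M)
  haveI : IsLocalHom (algebraMap Aq S) :=
    Localization.isLocalHom_localRingHom q Q (algebraMap A B) rfl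
  haveI : Algebra.EssFiniteType A B := inferInstance
  haveI : Algebra.EssFiniteType A S := Algebra.EssFiniteType.comp A B S
  haveI : Algebra.EssFiniteType Aq S := Algebra.EssFiniteType.of_comp A Aq S
  haveI : _root_.IsReduced Aq := inferInstance
  haveI : IsNoetherianRing Aq := IsLocalization.isNoetherianRing q.primeCompl Aq inferInstance
  haveI : Module.Flat A Aq := IsLocalization.flat Aq q.primeCompl
  suffices Module.Flat Aq MQ from Module.Flat.trans A Aq MQ
  refine flat_of_dvr (S := S) MQ ?_
  intro V _ _ _ _ hV P hP hPV hPS
  letI : Algebra A V := ((algebraMap Aq V).comp (algebraMap A Aq)).toAlgebra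
  haveI : IsScalarTower A Aq V := IsScalarTower.of_algebraMap_eq fun _ => rfl
  haveI hflat : Module.Flat V (V ⊗[A] M) := h V
  haveI : Module.Flat V (V ⊗[Aq] MQ) := by
    rw [Module.Flat.iff_rTensor_preserves_injective_linearMap]
    intro N N' _ _ _ _ g hg
    letI : Module Aq N := Module.compHom N (algebraMap Aq V)
    letI : Module Aq N' := Module.compHom N' (algebraMap Aq V)
    letI : Module A N := Module.compHom N (algebraMap A V)
    letI : Module A N' := Module.compHom N' (algebraMap A V)
    haveI : IsScalarTower Aq V N := IsScalarTower.of_algebraMap_smul fun _ _ => rfl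
    haveI : IsScalarTower Aq V N' := IsScalarTower.of_algebraMap_smul fun _ _ => rfl
    haveI : IsScalarTower A V N := IsScalarTower.of_algebraMap_smul fun _ _ => rfl
    haveI : IsScalarTower A V N' := IsScalarTower.of_algebraMap_smul fun _ _ => rfl
    haveI : IsScalarTower A Aq N := IsScalarTower.to₁₂₄ A Aq V N
    haveI : IsScalarTower A Aq N' := IsScalarTower.to₁₂₄ A Aq V N'
    let eA := fun (P : Type u) [AddCommGroup P] [Module A P] [Module V P] [IsScalarTower A V P] =>
      (AlgebraTensorModule.cancelBaseChange A V V P M).restrictScalars A
    have h1 : Function.Injective ((g.restrictScalars A).rTensor M) := by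
      have hk : ∀ z, (g.restrictScalars A).rTensor M (eA N z) = eA N' (g.rTensor _ z) := by
        intro z
        induction z using TensorProduct.induction_on with
        | zero => simp
        | tmul n y =>
          induction y using TensorProduct.induction_on with
          | zero => simp
          | tmul v m => simp [eA]
          | add a b ha hb => simp only [tmul_add, map_add, ha, hb]
        | add a b ha hb => simp only [map_add, ha, hb]
      intro a b hab
      obtain ⟨a, rfl⟩ := (eA N).surjective a
      obtain ⟨b, rfl⟩ := (eA N).surjective b
      rw [hk, hk] at hab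
      exact congrArg _ (Module.Flat.rTensor_preserves_injective_linearMap (M := V ⊗[A] M) g hg ((eA N').injective hab))
    have h2 := injective_rTensor_localized Q M (g.restrictScalars A) h1
    haveI := IsLocalization.tensorProduct_compatibleSMul q.primeCompl Aq N MQ
    haveI := IsLocalization.tensorProduct_compatibleSMul q.primeCompl Aq N' MQ
    let e := fun (P : Type u) [AddCommGroup P] [Module Aq P] [Module V P] [IsScalarTower Aq V P] =>
      (AlgebraTensorModule.cancelBaseChange Aq V V P MQ).restrictScalars Aq
    let cN := TensorProduct.equivOfCompatibleSMul A Aq Aq N MQ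
    let cN' := TensorProduct.equivOfCompatibleSMul A Aq Aq N' MQ
    have h3 : ∀ z, (g.restrictScalars A).rTensor MQ (cN (e N z)) = cN' (e N' (g.rTensor _ z)) := by
      intro z
      induction z using TensorProduct.induction_on with
      | zero => simp
      | tmul n y =>
        induction y using TensorProduct.induction_on with
        | zero => simp
        | tmul v m =>
          show (g.restrictScalars A).rTensor MQ ((v • n) ⊗ₜ[A] m) = (v • g n) ⊗ₜ[A] m
          simp
        | add a b ha hb => simp only [tmul_add, map_add, ha, hb]
      | add a b ha hb => simp only [map_add, ha, hb]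
    intro a b hab
    exact (e N).injective (cN.injective (h2 (by rw [h3, h3, hab])))
  haveI : Module.Flat V ((V ⊗[Aq] S) ⊗[S] MQ) :=
    Module.Flat.of_linearEquiv (Algebra.IsPushout.cancelBaseChange Aq V S (V ⊗[Aq] S) MQ)
  intro N N' _ _ _ _ g hg z hz
  exact ⟨1, fun h1 => hP.ne_top ((Ideal.eq_top_iff_one P).2 h1), by
    rw [one_smul]
    exact Module.Flat.lTensor_preserves_injective_linearMap g hg (hz.trans (map_zero _).symm)⟩

end Groth.Agent.FlatDvrVC5
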