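import Mathlib
import Groth.Prelude.Def_FDesc
import Groth.Prelude.Def_EGA43
import Groth.Agent.FlatDvrVC5.SchemePoint
import Groth.Agent.UnivOpen.SectionConst
import Groth.Agent.FibDim.FlatBC

/-!
# Universally open morphisms with geometrically reduced fibres over a reduced base are flat
-/

set_option autoImplicit false
set_option linter.style.haveILetI false

universe u

open CategoryTheory Limits AlgebraicGeometry IsLocalRing

namespace Groth.Agent.FlatDvrVC5

variable {X Y : Scheme.{u}} [IsLocallyNoetherian Y] (f : X ⟶ Y) [LocallyOfFiniteType f]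

theorem flat_stalkMap_of_univOpen (x : X)
    (hopen : ∀ z : ↥(f.fiber (f.base x)), f.asFiber x ∈ closure {z} →
      (∀ z' : ↥(f.fiber (f.base x)), z ∈ closure {z'} → z' = z) →
      EGA43.IsUnivOpenAt f ((f.fiberι (f.base x)).base z))
    (hred : FBase.IsGeomReducedAt (f.fiberToSpecResidueField (f.base x)) (f.asFiber x))
    (hy : _root_.IsReduced (Y.presheaf.stalk (f.base x))) :
    (f.stalkMap x).hom.Flat := by
  haveI := hy
  refine flat_stalkMap_of_dvr f x ?_
  intro A' _ _ _ φ _ x' hx' hc'
  let τ : Spec (CommRingCat.of A') ⟶ Y := Spec.map (CommRingCat.ofHom φ) ≫ Y.fromSpecStalk (f.base x)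
  let q := pullback.snd f τ
  let p := pullback.fst f τ
  let c : Spec (CommRingCat.of A') := closedPoint A'
  have hτ : τ c = f x := by
    have h1 : PrimeSpectrum.comap φ (closedPoint A') = closedPoint (Y.presheaf.stalk (f.base x)) :=
      IsLocalRing.comap_closedPoint φ
    exact (congrArg (Y.fromSpecStalk (f.base x)).base h1).trans Scheme.fromSpecStalk_closedPoint
  obtain ⟨w, hw⟩ : x' ∈ Set.range (q.fiberι c) := by rw [Scheme.Hom.range_fiberι]; exact hc'
  subst hw
  refine FlatDvr.flat_stalkMap q (rfl : c = closedPoint A') w (fun z hz hqz hmax => ?_) ?_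
  · have hqzc : q z = c := hqz.trans hc'
    have hpz : f (p z) = f x := by
      rw [← Scheme.Hom.comp_apply, pullback.condition, Scheme.Hom.comp_apply, hqzc, hτ]
    have hzx : p z ⤳ x := (hz.map p.continuous).trans (specializes_of_eq hx')
    have hm := FibDim.fibMax_of_baseChange (IsPullback.of_hasPullback f τ) hmax
    obtain ⟨v, hv⟩ : p z ∈ Set.range (f.fiberι (f.base x)) := by rw [Scheme.Hom.range_fiberι]; exact hpz
    have hemb := (f.fiberι (f.base x)).isEmbedding
    have hU := hopen v (specializes_iff_mem_closure.1 (hemb.isInducing.specializes_iff.1 (by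
        rw [hv, Scheme.Hom.fiberι_asFiber]; exact hzx))) (fun v' hv' => hemb.injective (by
      rw [hv]
      refine hm _ ?_ ?_
      · rw [← hv]; exact (specializes_iff_mem_closure.2 hv').map (f.fiberι (f.base x)).continuous
      · exact (FlatDvr.fiberι_apply_eq f v').trans hpz.symm))
    exact hU _ τ z hv.symm
  · exact UnivOpen.isReduced_fibre_baseChange f τ hτ (f.asFiber x) hred w
      (by rw [Scheme.Hom.fiberι_asFiber]; exact hx')

end Groth.Agent.FlatDvrVC5
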